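import Groth.Agent.Lib.Growth13.Bound
import Groth.Agent.Lib.CohFound.DevissageExt
import Groth.Agent.Lib.NumPoly18.HodgeIndex
import Groth.Agent.Lib.CohFound.ModQuot
import Groth.Agent.Lib.CMReg18.Linear

/-!
# Decay of higher cohomology near a vanishing end

Fix invertible modules `L, H` with a twisting family `F (N, j) = L^N ⊗ H^j`.  If in degrees above `i'`
every coherent twist vanishes at the end `(N, J)` of a segment, then at `(N, j)` the cohomology in degree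
`i' + e` of a coherent module with support of dimension `d` is `O ((J - j + 1)^e N^(d - e))`, with a
constant independent of the segment.
-/

set_option autoImplicit false
set_option linter.style.haveILetI false
set_option linter.unusedSectionVars false
set_option maxHeartbeats 1000000
set_option backward.isDefEq.respectTransparency false
set_option backward.isDefEq.respectTransparency.types false

universe u

open CategoryTheory CategoryTheory.Limits AlgebraicGeometry TopologicalSpace Opposite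

namespace Groth.Agent.Hilb13

open Groth.Agent CohFound Growth13

/-- An ideal of an integral closed subscheme which vanishes at the generic point is zero. -/
theorem isZero_push_of_notMem {X Z : Scheme.{u}} (i : Z ⟶ X) [IsClosedImmersion i] [IsIntegral Z]
    {I : Z.Modules} (ι : I ⟶ Coh.structureModule Z) [Mono ι]
    (h : i (genericPoint Z) ∉ CohB1.support ((Scheme.Modules.pushforward i).obj I)) :
    IsZero ((Scheme.Modules.pushforward i).obj I) := by
  refine (Scheme.Modules.pushforward i).map_isZero ?_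
  refine Snapper.isZero_of_support_empty (Set.eq_empty_of_forall_notMem fun z => ?_)
  refine (M1.notMem_support_iff _ z).2 fun a => ?_
  obtain ⟨W, hzW, s, rfl⟩ := I.presheaf.exists_germ_eq a
  obtain ⟨V, hV, hVW⟩ := i.isEmbedding.isInducing.isOpen_iff.1 W.2
  let V₀ : X.Opens := ⟨V, hV⟩
  have hW : W = i ⁻¹ᵁ V₀ := TopologicalSpace.Opens.ext hVW.symm
  subst hW
  have hgW : genericPoint Z ∈ i ⁻¹ᵁ V₀ :=
    ((genericPoint_spec Z).mem_open_set_iff (i ⁻¹ᵁ V₀).2).2 ⟨z, trivial, hzW⟩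
  let s' : Γ((Scheme.Modules.pushforward i).obj I, V₀) := s
  have h0 := (M1.notMem_support_iff _ _).1 h
    (((Scheme.Modules.pushforward i).obj I).presheaf.germ V₀ (i (genericPoint Z)) hgW s')
  have hgV : i (genericPoint Z) ∈ V₀ := hgW
  obtain ⟨V', hxV', i₁, i₂, he⟩ := ((Scheme.Modules.pushforward i).obj I).presheaf.germ_eq
    (i (genericPoint Z)) hgV hgV s' 0 (h0.trans (map_zero _).symm)
  have hres : M1.mres I (show i ⁻¹ᵁ V' ≤ i ⁻¹ᵁ V₀ from i.preimage_mono i₁.le) s = 0 :=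
    he.trans (map_zero _)
  have hιs : ι.app (i ⁻¹ᵁ V₀) s = 0 := by
    have hle : i ⁻¹ᵁ V' ≤ i ⁻¹ᵁ V₀ := i.preimage_mono i₁.le
    have h1 : M1.mres (Coh.structureModule Z) hle (ι.app (i ⁻¹ᵁ V₀) s) = 0 := by
      rw [← M1.app_mres, hres, map_zero]
    haveI : Nonempty (i ⁻¹ᵁ V' : Z.Opens) := ⟨⟨genericPoint Z, hxV'⟩⟩
    have h2 : Z.presheaf.map (homOfLE hle).op (ι.app (i ⁻¹ᵁ V₀) s) = 0 := h1
    exact map_injective_of_isIntegral (U := i ⁻¹ᵁ V') Z (homOfLE hle) (h2.trans (map_zero _).symm)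
  refine (M1.mono_iff_stalk ι).1 inferInstance z ?_
  refine (TopCat.Presheaf.stalkFunctor_map_germ_apply (i ⁻¹ᵁ V₀) z hzW ι.mapPresheaf s).trans ?_
  erw [hιs, map_zero, map_zero]

variable {X : Scheme.{u}} {k : Type u} [Field k] [X.Over (Spec (CommRingCat.of k))]
  [IsProper (X ↘ Spec (CommRingCat.of k))]

/-- The one-step inequality along a zigzag. -/
theorem hdim_zigzag {W G G' : X.Modules} (φ : W ⟶ G) (ψ : W ⟶ G') (hW : Coh.IsCoh W) (hG : Coh.IsCoh G)
    (hG' : Coh.IsCoh G') {T : X.Modules} (hT : PicF.IsInvertible T) (q : ℕ) :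
    hdim k (CohB1.tensorMod G T) q ≤ hdim k (CohB1.tensorMod G' T) q +
      (hdim k (CohB1.tensorMod (kernel φ) T) (q + 1) + hdim k (CohB1.tensorMod (cokernel φ) T) q +
        hdim k (CohB1.tensorMod (kernel ψ) T) q + hdim k (CohB1.tensorMod (cokernel ψ) T) (q - 1)) := by
  haveI : IsNoetherian X := CohFound.isNoetherian_of_isProper (X ↘ (Spec (CommRingCat.of k)))
  have cK : Coh.IsCoh (kernel φ) := CurveCoh17.isCoh_kernel hW hG.1 φ
  have cC : Coh.IsCoh (cokernel φ) := M1.isCoh_cokernel hW.1 hG φ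
  have cI : Coh.IsCoh (Abelian.image φ) := CurveCoh17.isCoh_kernel hG cC.1 _
  have cK' : Coh.IsCoh (kernel ψ) := CurveCoh17.isCoh_kernel hW hG'.1 ψ
  have cC' : Coh.IsCoh (cokernel ψ) := M1.isCoh_cokernel hW.1 hG' ψ
  have cI' : Coh.IsCoh (Abelian.image ψ) := CurveCoh17.isCoh_kernel hG' cC'.1 _
  have a1 := hdim_mid_tensor_le (k := k) (CurveCoh17.cokerSC_shortExact φ) cI hG cC hT q
  have a2 := hdim_right_tensor_le (k := k) (CurveCoh17.kerSC_shortExact φ) cK hW cI hT q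
  have a3 := hdim_mid_tensor_le (k := k) (CurveCoh17.kerSC_shortExact ψ) cK' hW cI' hT q
  have a4 := hdim_left_tensor_le (k := k) (CurveCoh17.cokerSC_shortExact ψ) cI' hG' cC' hT q
  simp only at a1 a2 a3 a4
  omega

/-- Telescoping. -/
theorem le_add_sum (f a : ℕ → ℕ) {J : ℕ} :
    ∀ {j : ℕ}, j ≤ J → (∀ l, j ≤ l → l < J → f l ≤ f (l + 1) + a l) → f j ≤ f J + ∑ l ∈ Finset.Ico j J, a l := by
  intro j hj
  induction hj with
  | refl => intro _; simp
  | @step J' hj' ih =>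
    intro h
    have h1 := ih fun l h1 h2 => h l h1 (h2.trans (Nat.lt_succ_self _))
    have h2 := h J' hj' (Nat.lt_succ_self _)
    rw [Finset.sum_Ico_succ_top hj']
    simp only [Nat.succ_eq_add_one] at h1 h2 ⊢
    linarith

variable (k) in
/-- Coherent twists vanish above degree `i'` at the end `(D n, p n)` for large `n`. -/
def Good (F : (Fin 2 → ℤ) → X.Modules) (i' D p : ℕ) : Prop :=
  ∀ G : X.Modules, Coh.IsCoh G → ∃ n₀ : ℕ, ∀ n, n₀ ≤ n → ∀ q, i' < q →
    hdim k (CohB1.tensorMod G (F ![((D * n : ℕ) : ℤ), ((p * n : ℕ) : ℤ)])) q = 0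

variable (k) in
/-- The decay bound. -/
def Decay (F : (Fin 2 → ℤ) → X.Modules) (i' b d : ℕ) (G : X.Modules) : Prop :=
  ∃ C : ℕ, ∀ D p : ℕ, 0 < D → p ≤ b * D → Good k F i' D p → ∃ n₀ : ℕ, ∀ n, n₀ ≤ n → ∀ j, j ≤ p * n → ∀ e,
    hdim k (CohB1.tensorMod G (F ![((D * n : ℕ) : ℤ), (j : ℤ)])) (i' + e) * (D * n) ^ e ≤
      C * (p * n - j + 1) ^ e * (D * n) ^ d

theorem step_le {Δ N c e d' B h₁ h₂ h₃ C₁ C₂ C₃ : ℕ} (hN : 0 < N) (hΔ : Δ ≤ c * N) (hc : 0 < c)
    (H₁ : h₁ * N ^ (e + 2) ≤ C₁ * Δ ^ (e + 2) * N ^ d') (H₂ : h₂ * N ^ (e + 1) ≤ C₂ * Δ ^ (e + 1) * N ^ d')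
    (H₃ : h₃ * N ^ e ≤ C₃ * Δ ^ e * N ^ d') (hB : B = h₁ + h₂ + h₃) :
    B * N ^ (e + 1) ≤ (C₁ * c ^ 2 + C₂ * c + C₃) * Δ ^ e * N ^ (d' + 1) := by
  subst hB
  refine Nat.le_of_mul_le_mul_right ?_ hN
  have e1 : h₁ * N ^ (e + 1) * N ≤ C₁ * c ^ 2 * Δ ^ e * N ^ (d' + 1) * N := by
    calc h₁ * N ^ (e + 1) * N = h₁ * N ^ (e + 2) := by ring
      _ ≤ C₁ * Δ ^ (e + 2) * N ^ d' := H₁
      _ = C₁ * (Δ * Δ) * Δ ^ e * N ^ d' := by ring
      _ ≤ C₁ * ((c * N) * (c * N)) * Δ ^ e * N ^ d' :=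
        Nat.mul_le_mul_right _ (Nat.mul_le_mul_right _ (Nat.mul_le_mul_left _ (Nat.mul_le_mul hΔ hΔ)))
      _ = _ := by ring
  have e2 : h₂ * N ^ (e + 1) * N ≤ C₂ * c * Δ ^ e * N ^ (d' + 1) * N := by
    calc h₂ * N ^ (e + 1) * N ≤ C₂ * Δ ^ (e + 1) * N ^ d' * N := Nat.mul_le_mul_right _ H₂
      _ = C₂ * Δ * Δ ^ e * N ^ d' * N := by ring
      _ ≤ C₂ * (c * N) * Δ ^ e * N ^ d' * N :=
        Nat.mul_le_mul_right _ (Nat.mul_le_mul_right _ (Nat.mul_le_mul_right _ (Nat.mul_le_mul_left _ hΔ)))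
      _ = _ := by ring
  have e3 : h₃ * N ^ (e + 1) * N ≤ C₃ * Δ ^ e * N ^ (d' + 1) * N := by
    calc h₃ * N ^ (e + 1) * N = h₃ * N ^ e * (N * N) := by ring
      _ ≤ C₃ * Δ ^ e * N ^ d' * (N * N) := Nat.mul_le_mul_right _ H₃
      _ = _ := by ring
  calc (h₁ + h₂ + h₃) * N ^ (e + 1) * N = h₁ * N ^ (e + 1) * N + h₂ * N ^ (e + 1) * N + h₃ * N ^ (e + 1) * N := by
        ring
    _ ≤ C₁ * c ^ 2 * Δ ^ e * N ^ (d' + 1) * N + C₂ * c * Δ ^ e * N ^ (d' + 1) * N +
        C₃ * Δ ^ e * N ^ (d' + 1) * N := add_le_add (add_le_add e1 e2) e3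
    _ = _ := by ring

variable {L H : X.Modules} {F : (Fin 2 → ℤ) → X.Modules}

/-- **Decay.** -/
theorem decay (hL : PicF.IsInvertible L) (hH : PicF.IsInvertible H) (hF : ∀ a, PicF.IsInvertible (F a))
    (hstep : ∀ a j, Nonempty (F (a + Pi.single j 1) ≅ CohB1.tensorMod (F a) (![L, H] j)))
    (i' b : ℕ) [Nonempty X] :
    ∀ (d : ℕ) (G : X.Modules), Coh.IsCoh G →
      topologicalKrullDim (CohB1.support G) ≤ (d : WithBot ℕ∞) → Decay k F i' b d G := by
  haveI : IsNoetherian X := CohFound.isNoetherian_of_isProper (X ↘ (Spec (CommRingCat.of k)))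
  have hsep : X.IsSeparated := CurveAmple18.isSeparated k X
  intro d
  induction d using Nat.strong_induction_on with
  | _ d IH =>
  intro G hG hdim'
  revert hdim'
  refine CohFound.holds_of_extensions
    (fun G => topologicalKrullDim (CohB1.support G) ≤ (d : WithBot ℕ∞) → Decay k F i' b d G)
    (fun M N he h hN => ?_) (fun S hS h1 h2 h3 p1 p3 hd => ?_) (fun Z i hi hZ I ι hι hI hd => ?_) hG
  · obtain ⟨e⟩ := he
    obtain ⟨C, hC⟩ := h (by
      exact (Snapper.dim_le_of_subset (support_subset_of_mono e.hom) hN))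
    refine ⟨C, fun D p hD hp hg => ?_⟩
    obtain ⟨n₀, hn₀⟩ := hC D p hD hp hg
    refine ⟨n₀, fun n hn j hj e' => ?_⟩
    rw [hdim_iso k (M2.tensorIso e.symm (Iso.refl _))]
    exact hn₀ n hn j hj e'
  · have hs := CohGab13.support_mid hS
    obtain ⟨C₁, hC₁⟩ := p1 (Snapper.dim_le_of_subset (hs ▸ Set.subset_union_left) hd)
    obtain ⟨C₃, hC₃⟩ := p3 (Snapper.dim_le_of_subset (hs ▸ Set.subset_union_right) hd)
    refine ⟨C₁ + C₃, fun D p hD hp hg => ?_⟩
    obtain ⟨n₁, hn₁⟩ := hC₁ D p hD hp hg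
    obtain ⟨n₃, hn₃⟩ := hC₃ D p hD hp hg
    refine ⟨max n₁ n₃, fun n hn j hj e => ?_⟩
    refine (Nat.mul_le_mul_right _ (hdim_mid_tensor_le hS h1 h2 h3 (hF _) (i' + e))).trans ?_
    rw [add_mul, add_mul, add_mul]
    exact add_le_add (hn₁ n (le_of_max_le_left hn) j hj e) (hn₃ n (le_of_max_le_right hn) j hj e)
  -- an ideal on an integral closed subscheme
  haveI := hi
  haveI := hZ
  haveI := hι
  set G := (Coh.push i).obj I
  haveI : IsLocallyNoetherian Z := LocallyOfFiniteType.isLocallyNoetherian i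
  by_cases hη : i (genericPoint Z) ∈ CohB1.support G
  swap
  · refine ⟨0, fun D p _ _ _ => ⟨0, fun n _ j _ e => ?_⟩⟩
    rw [hdim_of_support_empty k (M := CohB1.tensorMod G _)]
    · simp
    · refine Set.subset_empty_iff.1 ((Snapper.support_tensor_subset G _).trans ?_)
      intro x hx
      exact (hx (AddCommGrpCat.subsingleton_of_isZero
        ((M1.stalkAb x).map_isZero (isZero_push_of_notMem i ι hη)))).elim
  have hGc : Coh.IsCoh G := isCoh_push_closedImm i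
    (M1.isCoh_of_mono ι (M1.isCoh_structureModule Z) hI)
  have hr : Set.range i = closure {i (genericPoint Z)} := by
    rw [← Set.image_univ, ← genericPoint_closure Z, ← i.isClosedEmbedding.closure_image_eq, Set.image_singleton]
  have hGs : CohB1.support G ⊆ closure {i (genericPoint Z)} := (CohFound.support_push_subset i _).trans hr.le
  have hdη : topologicalKrullDim (closure ({i (genericPoint Z)} : Set X)) ≤ (d : WithBot ℕ∞) :=
    Snapper.dim_le_of_subset ((M1.isClosed_support hGc.2).closure_subset_iff.2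
      (Set.singleton_subset_iff.2 hη)) hd
  have hG' : Coh.IsCoh (CohB1.tensorMod G H) :=
    CurveCoh17.isCoh_tensor hGc (Snapper.isCoh_of_isInvertible hH)
  obtain ⟨V, hηV, ⟨eV⟩⟩ := hH (i (genericPoint Z))
  obtain ⟨U, hU, hηU, hUV⟩ := exists_isAffineOpen_mem_and_subset (U := V) hηV
  obtain ⟨eU⟩ := M2.nonempty_trivial_mono hUV eV
  obtain ⟨W, φ, ψ, hW, k1, c1, k2, c2⟩ := Snapper.exists_zigzag hsep hGc hG' hGs
    ((Snapper.support_tensor_subset G _).trans hGs) hU hηU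
    (M2.restrictTensorIso U.ι G H ≪≫ M2.tensorIso (Iso.refl _) eU ≪≫ M2.tensorRUnit _)
  have hC : IsClosed (closure {i (genericPoint Z)} \ (U : Set X)) := isClosed_closure.sdiff U.isOpen
  have hstep' : ∀ (N l q : ℕ), hdim k (CohB1.tensorMod (CohB1.tensorMod G H) (F ![(N : ℤ), (l : ℤ)])) q =
      hdim k (CohB1.tensorMod G (F ![(N : ℤ), ((l + 1 : ℕ) : ℤ)])) q := fun N l q => by
    obtain ⟨f⟩ := hstep ![(N : ℤ), (l : ℤ)] 1
    refine hdim_iso k ((M2.tensorAssoc _ _ _) ≪≫ M2.tensorIso (Iso.refl G) (M2.tensorComm _ _ ≪≫ f.symm ≪≫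
      eqToIso (congrArg F (funext fun t => ?_)))) q
    fin_cases t <;> simp
  -- the bound at fixed position
  obtain ⟨C₀, hC₀⟩ := Growth13.bdd k (L := ![L, H]) (fun j => by fin_cases j; exacts [hL, hH]) hF hstep d G hGc hd
  rcases d with _ | d'
  · -- zero-dimensional: no change along the segment
    have hempty : ∀ K : X.Modules, CohB1.support K ⊆ closure {i (genericPoint Z)} \ (U : Set X) →
        CohB1.support K = ∅ := fun K hK => Set.subset_empty_iff.1 (hK.trans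
      (Snapper.eq_empty_of_notMem hC Set.sdiff_subset (fun h => h.2 hηU) (by simpa using hdη)).le)
    have hz : ∀ (K T : X.Modules) (q : ℕ), CohB1.support K ⊆ closure {i (genericPoint Z)} \ (U : Set X) →
        hdim k (CohB1.tensorMod K T) q = 0 := fun K T q hK => hdim_of_support_empty k
      (Set.subset_empty_iff.1 ((Snapper.support_tensor_subset K T).trans (hempty K hK).le)) q
    refine ⟨C₀, fun D p hD hp hg => ?_⟩
    obtain ⟨n₀, hn₀⟩ := hg G hGc
    refine ⟨n₀ + 1, fun n hn j hj e => ?_⟩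
    rcases e with _ | e
    · simpa using hC₀ i' ![((D * n : ℕ) : ℤ), (j : ℤ)]
    have key := le_add_sum (fun l => hdim k (CohB1.tensorMod G (F ![((D * n : ℕ) : ℤ), (l : ℤ)])) (i' + (e + 1)))
      (fun _ => 0) hj fun l _ _ => by
        have h := hdim_zigzag (k := k) φ ψ hW hGc hG' (hF ![((D * n : ℕ) : ℤ), (l : ℤ)]) (i' + (e + 1))
        rw [hstep', hz _ _ _ k1, hz _ _ _ c1, hz _ _ _ k2, hz _ _ _ c2] at h
        simpa using h
    rw [Finset.sum_const_zero, add_zero, hn₀ n (by omega) _ (by omega), Nat.le_zero] at key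
    rw [key, zero_mul]
    exact Nat.zero_le _
  · have hdim₁ : ∀ K : X.Modules, CohB1.support K ⊆ closure {i (genericPoint Z)} \ (U : Set X) →
        topologicalKrullDim (CohB1.support K) ≤ (d' : WithBot ℕ∞) := fun K hK => Snapper.dim_le_of_subset hK
      (Snapper.dim_le_of_notMem hC Set.sdiff_subset (fun h => h.2 hηU) hdη)
    obtain ⟨B₁, hB₁⟩ := IH d' (Nat.lt_succ_self _) _ (CurveCoh17.isCoh_kernel hW hGc.1 φ) (hdim₁ _ k1)
    obtain ⟨B₂, hB₂⟩ := IH d' (Nat.lt_succ_self _) _ (M1.isCoh_cokernel hW.1 hGc φ) (hdim₁ _ c1)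
    obtain ⟨B₃, hB₃⟩ := IH d' (Nat.lt_succ_self _) _ (CurveCoh17.isCoh_kernel hW hG'.1 ψ) (hdim₁ _ k2)
    obtain ⟨B₄, hB₄⟩ := IH d' (Nat.lt_succ_self _) _ (M1.isCoh_cokernel hW.1 hG' ψ) (hdim₁ _ c2)
    set c := b + 2
    refine ⟨C₀ * (b + 2) ^ (d' + 1) + (B₁ * c ^ 2 + (B₂ + B₃) * c + B₄), fun D p hD hp hg => ?_⟩
    obtain ⟨n₁, hn₁⟩ := hB₁ D p hD hp hg
    obtain ⟨n₂, hn₂⟩ := hB₂ D p hD hp hg
    obtain ⟨n₃, hn₃⟩ := hB₃ D p hD hp hg
    obtain ⟨n₄, hn₄⟩ := hB₄ D p hD hp hg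
    obtain ⟨n₀, hn₀⟩ := hg G hGc
    refine ⟨n₁ + n₂ + n₃ + n₄ + n₀ + 1, fun n hn j hj e => ?_⟩
    have hN : 0 < D * n := Nat.mul_pos hD (by omega)
    have hpn : p * n ≤ b * (D * n) := by
      rw [← mul_assoc]; exact Nat.mul_le_mul_right n hp
    have hc : c * (D * n) = b * (D * n) + 2 * (D * n) := by ring
    rcases e with _ | e
    · have h := hC₀ i' ![((D * n : ℕ) : ℤ), (j : ℤ)]
      have hw : Growth13.wt ![((D * n : ℕ) : ℤ), (j : ℤ)] + 1 ≤ c * (D * n) := by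
        rw [Growth13.wt, Fin.sum_univ_two]
        simp only [Matrix.cons_val_zero, Matrix.cons_val_one, Int.natAbs_natCast]
        omega
      rw [pow_zero, mul_one, pow_zero, mul_one]
      refine h.trans ((Nat.mul_le_mul_left C₀ (Nat.pow_le_pow_left hw _)).trans ?_)
      rw [mul_pow, ← mul_assoc]
      exact Nat.mul_le_mul_right _ (Nat.le_add_right _ _)
    set N := D * n with hNdef
    set J := p * n with hJdef
    let a : ℕ → ℕ := fun l =>
      hdim k (CohB1.tensorMod (kernel φ) (F ![(N : ℤ), (l : ℤ)])) (i' + (e + 1) + 1) +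
        (hdim k (CohB1.tensorMod (cokernel φ) (F ![(N : ℤ), (l : ℤ)])) (i' + (e + 1)) +
        hdim k (CohB1.tensorMod (kernel ψ) (F ![(N : ℤ), (l : ℤ)])) (i' + (e + 1))) +
        hdim k (CohB1.tensorMod (cokernel ψ) (F ![(N : ℤ), (l : ℤ)])) (i' + e)
    have key := le_add_sum (fun l => hdim k (CohB1.tensorMod G (F ![(N : ℤ), (l : ℤ)])) (i' + (e + 1))) a hj
      fun l _ _ => by
        have h := hdim_zigzag (k := k) φ ψ hW hGc hG' (hF ![(N : ℤ), (l : ℤ)]) (i' + (e + 1))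
        rw [hstep', show i' + (e + 1) - 1 = i' + e by omega] at h
        simp only [a]
        omega
    have hJ0 : hdim k (CohB1.tensorMod G (F ![(N : ℤ), (J : ℤ)])) (i' + (e + 1)) = 0 :=
      hn₀ n (by omega) _ (by omega)
    simp only [hJ0, zero_add] at key
    set K := B₁ * c ^ 2 + (B₂ + B₃) * c + B₄
    have ha : ∀ l, j ≤ l → l < J → a l * N ^ (e + 1) ≤ K * (J - j + 1) ^ e * N ^ (d' + 1) := by
      intro l hjl hlJ
      refine (step_le hN (Δ := J - l + 1) (c := c) (d' := d') (C₂ := B₂ + B₃) ?_ (Nat.succ_pos _)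
        (hn₁ n (by omega) l hlJ.le (e + 2)) ?_ (hn₄ n (by omega) l hlJ.le e) rfl).trans ?_
      · omega
      · rw [add_mul, add_mul, add_mul]
        exact add_le_add (hn₂ n (by omega) l hlJ.le (e + 1)) (hn₃ n (by omega) l hlJ.le (e + 1))
      · exact Nat.mul_le_mul_right _ (Nat.mul_le_mul_left _ (Nat.pow_le_pow_left (by omega) _))
    refine (Nat.mul_le_mul_right _ key).trans ?_
    rw [Finset.sum_mul]
    refine (Finset.sum_le_card_nsmul _ _ _ fun l hl => ha l (Finset.mem_Ico.1 hl).1 (Finset.mem_Ico.1 hl).2).trans ?_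
    rw [Nat.card_Ico, smul_eq_mul]
    calc (J - j) * (K * (J - j + 1) ^ e * N ^ (d' + 1))
        ≤ (J - j + 1) * (K * (J - j + 1) ^ e * N ^ (d' + 1)) := Nat.mul_le_mul_right _ (Nat.le_succ _)
      _ = K * (J - j + 1) ^ (e + 1) * N ^ (d' + 1) := by ring
      _ ≤ _ := Nat.mul_le_mul_right _ (Nat.mul_le_mul_right _ (Nat.le_add_left _ _))

end Groth.Agent.Hilb13
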