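import Groth.Agent.Lib.Hilb13.Decay

/-!
# Vanishing at the end of a segment for all coherent twists
-/

set_option autoImplicit false
set_option linter.style.haveILetI false
set_option linter.unusedSectionVars false
set_option maxHeartbeats 1000000
set_option backward.isDefEq.respectTransparency false
set_option backward.isDefEq.respectTransparency.types false

universe u

open CategoryTheory CategoryTheory.Limits AlgebraicGeometry TopologicalSpace Opposite

namespace Groth.Agent.Hilb13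

open Groth.Agent CohFound Growth13

variable {X : Scheme.{u}} {k : Type u} [Field k] [X.Over (Spec (CommRingCat.of k))]
  [IsProper (X ↘ Spec (CommRingCat.of k))] {L H : X.Modules} {F : (Fin 2 → ℤ) → X.Modules}

/-- Stepping `r` times in the direction of `H`. -/
theorem nonempty_step_pow (hstep : ∀ a j, Nonempty (F (a + Pi.single j 1) ≅ CohB1.tensorMod (F a) (![L, H] j)))
    (N : ℤ) (l : ℕ) : ∀ r : ℕ, Nonempty (F ![N, ((l + r : ℕ) : ℤ)] ≅
      CohB1.tensorMod (F ![N, (l : ℤ)]) (CohB1.tensorPow H r))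
  | 0 => ⟨(M2.tensorRUnit _).symm⟩
  | r + 1 => by
    obtain ⟨e⟩ := nonempty_step_pow hstep N l r
    obtain ⟨f⟩ := hstep ![N, ((l + r : ℕ) : ℤ)] 1
    exact ⟨eqToIso (congrArg F (funext fun t => by fin_cases t <;> simp <;> ring)) ≪≫ f ≪≫
      M2.tensorIso e (Iso.refl H) ≪≫ M2.tensorAssoc _ _ _⟩

/-- If the twists by negative powers of an ample `H` vanish above degree `i'` at the far end, so does
every coherent module. -/
theorem good_of_vanish (hH : CohB1.IsAmple H) (hF : ∀ a, PicF.IsInvertible (F a))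
    (hstep : ∀ a j, Nonempty (F (a + Pi.single j 1) ≅ CohB1.tensorMod (F a) (![L, H] j))) {i' D p : ℕ}
    (h : ∀ r : ℕ, ∃ n₀ : ℕ, ∀ n, n₀ ≤ n → r ≤ p * n ∧ ∀ q, i' < q →
      hdim k (F ![((D * n : ℕ) : ℤ), ((p * n - r : ℕ) : ℤ)]) q = 0) : Good k F i' D p := by
  haveI : IsNoetherian X := CohFound.isNoetherian_of_isProper (X ↘ (Spec (CommRingCat.of k)))
  obtain ⟨B, hB⟩ := EulerAdd18.exists_bdd k X
  suffices key : ∀ (m : ℕ) (G : X.Modules), Coh.IsCoh G → ∃ n₀ : ℕ, ∀ n, n₀ ≤ n → ∀ q, i' < q → B + 1 ≤ q + m →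
      hdim k (CohB1.tensorMod G (F ![((D * n : ℕ) : ℤ), ((p * n : ℕ) : ℤ)])) q = 0 by
    intro G hG
    obtain ⟨n₀, hn₀⟩ := key (B + 1) G hG
    exact ⟨n₀, fun n hn q hq => hn₀ n hn q hq (by omega)⟩
  intro m
  induction m with
  | zero =>
    refine fun G hG => ⟨0, fun n _ q _ hq => ?_⟩
    haveI := (hB _ (CurveCoh17.isCoh_tensor hG
      (Snapper.isCoh_of_isInvertible (hF ![((D * n : ℕ) : ℤ), ((p * n : ℕ) : ℤ)])))).vanish q (by omega)
    exact Module.finrank_zero_of_subsingleton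
  | succ m ih =>
    intro G hG
    obtain ⟨r, hr⟩ := RA.exists_globallyGenerated hH G hG.1 hG.2
    have hHr := M2.isInvertible_tensorPow hH.1 r
    obtain ⟨b, π, hπ⟩ := CohFound.exists_epi_freeMod
      (CurveCoh17.isCoh_tensor hG (Snapper.isCoh_of_isInvertible hHr)) (hr r le_rfl)
    obtain ⟨D', hD', ⟨e⟩⟩ := M2.exists_inverse hHr
    haveI := CohFound.epi_tensorMap π D'
    let E := CohB1.tensorMod (FlatMod.freeMod X b) D'
    let φ : E ⟶ G := M2.tensorMap π (𝟙 D') ≫
      (M2.tensorAssoc _ _ _ ≪≫ M2.tensorIso (Iso.refl G) e ≪≫ M2.tensorRUnit G).hom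
    have hE : Coh.IsCoh E := CohFound.isCoh_of_isFinLocFree
      (M2.isFinLocFree_tensor (KFlat.Sch.isFinLocFree_freeMod X b) (M2.isFinLocFree_of_isInvertible hD'))
    have hK : Coh.IsCoh (kernel φ) := M1.isCoh_kernel hE hG.1 φ
    have hS : (ShortComplex.mk (kernel.ι φ) φ (kernel.condition φ)).ShortExact :=
      { exact := ShortComplex.exact_of_f_is_kernel _ (kernelIsKernel φ) }
    obtain ⟨n₁, hn₁⟩ := h r
    obtain ⟨n₂, hn₂⟩ := ih _ hK
    refine ⟨n₁ + n₂, fun n hn q hq hqB => ?_⟩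
    obtain ⟨hrp, hvan⟩ := hn₁ n (by omega)
    set T := F ![((D * n : ℕ) : ℤ), ((p * n : ℕ) : ℤ)]
    have hle := hdim_right_tensor_le (k := k) hS hK hE hG (hF ![((D * n : ℕ) : ℤ), ((p * n : ℕ) : ℤ)]) q
    simp only at hle
    rw [hn₂ n (by omega) (q + 1) (by omega) (by omega), add_zero] at hle
    refine Nat.le_zero.1 (hle.trans (le_of_eq ?_))
    obtain ⟨f⟩ := nonempty_step_pow hstep ((D * n : ℕ) : ℤ) (p * n - r) r
    have hsub : p * n - r + r = p * n := Nat.sub_add_cancel hrp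
    rw [hsub] at f
    have hterm : Subsingleton (Coh.HH X (CohB1.tensorMod D' T) q) := by
      haveI := CohFound.finite_HH_of_isProper (A := k) _ (CurveCoh17.isCoh_tensor (Snapper.isCoh_of_isInvertible hD')
        (Snapper.isCoh_of_isInvertible (hF ![((D * n : ℕ) : ℤ), ((p * n : ℕ) : ℤ)]))) q
      refine (Module.finrank_eq_zero_iff_of_free k _).1 ((hdim_iso k ?_ q).trans (hvan q hq))
      exact M2.tensorIso (Iso.refl D') f ≪≫ M2.tensorComm _ _ ≪≫ M2.tensorAssoc _ _ _ ≪≫
        M2.tensorIso (Iso.refl _) e ≪≫ M2.tensorRUnit _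
    haveI : Subsingleton (Coh.HH X (CohB1.tensorMod E T) q) := by
      refine CMReg18.van_iso k (M2.tensorAssoc (FlatMod.freeMod X b) D' T ≪≫
        PreservesCoproduct.iso (M2.tensorR (CohB1.tensorMod D' T)) _).symm (CMReg18.van_sigma k _ fun _ => ?_)
      exact CMReg18.van_iso k (M2.tensorLUnit _).symm hterm
    exact Module.finrank_zero_of_subsingleton

end Groth.Agent.Hilb13
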