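import Groth.Agent.Lib.Hilb13.Roots
import Groth.Agent.Lib.ShStab28.Sheaf

/-!
# All roots of the Hilbert polynomial of a nondegenerate module are real
-/

universe u

open CategoryTheory Limits MonoidalCategory CartesianMonoidalCategory AlgebraicGeometry TopologicalSpace Opposite
open scoped MonObj GrpObj

set_option autoImplicit false
set_option linter.style.haveILetI false
set_option linter.unusedSectionVars false
set_option maxHeartbeats 1000000
set_option backward.isDefEq.respectTransparency false
set_option backward.isDefEq.respectTransparency.types false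

noncomputable section

namespace Groth.Agent.Hilb13

open Index22

noncomputable local instance instLawHilbReal13 (Y : Scheme.{u}) : PicGrp.Law Y := M2.law Y

variable {k : Type u} [Field k] {A : Over (Spec (CommRingCat.of k))} [GrpObj A] [IsProper A.hom]
  [GeometricallyIntegral A.hom]

namespace Data

variable (S : Data A)

theorem natDegree_le : S.Φ.natDegree ≤ S.g := by
  letI : A.left.Over (Spec (CommRingCat.of k)) := ⟨A.hom⟩
  haveI : IsProper (A.left ↘ Spec (CommRingCat.of k)) := inferInstanceAs (IsProper A.hom)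
  obtain ⟨P, hP, hPe⟩ := Snapper.snapper (k := k) (X := A.left) S.g S.L (Snapper.isCoh_of_isInvertible S.hL)
    (Topology.IsInducing.subtypeVal.topologicalKrullDim_le.trans S.hg.le) 1 (fun _ => S.H) (fun _ => S.hH.1)
  rw [RR22.poly_ext (p := S.Φ) (q := MvPolynomial.aeval (fun _ : Fin 1 => (Polynomial.X : Polynomial ℚ)) P) 0
    fun n _ => ?_]
  · exact ShStab28.natDegree_aeval_X_le hP
  rw [S.hΦ, eval_aeval']
  refine Eq.trans ?_ ((hPe fun _ => n).trans (congrArg (fun f => MvPolynomial.eval f P) (funext fun _ => ?_)))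
  · exact congrArg Int.cast (CurveCoh17.euler_iso (M2.tensorIso (Iso.refl S.L)
      (M2.tensorRUnit (CohB1.tensorPow S.H n)).symm))
  · simp

/-- `χ(L⁻¹ ⊗ H^n) = (-1)^g Φ(-n)`. -/
theorem chi_inverse {L' : A.left.Modules} (hL' : PicF.IsInvertible L')
    (e : Nonempty (CohB1.tensorMod S.L L' ≅ Coh.structureModule A.left)) (n : ℕ) :
    (chi (CohB1.tensorMod L' (CohB1.tensorPow S.H n)) : ℚ) = (-1) ^ S.g * S.Φ.eval (-(n : ℚ)) := by
  haveI : IsIntegral A.left := GeometricallyIntegral.isIntegral_of_subsingleton A.hom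
  have hcL' : PicGrp.cls L' hL' = (PicGrp.cls S.L S.hL)⁻¹ := Index22.cls_inverse S.hL hL' e
  obtain ⟨P, -, hP⟩ := AVDegree22.exists_euler_class S.g S.hg.le ![S.L, L', S.H]
    (fun i => by fin_cases i; exacts [S.hL, hL', S.hH.1])
  let q : Polynomial ℚ := MvPolynomial.aeval ![Polynomial.X, Polynomial.C 1, Polynomial.C (n : ℚ)] P
  have hq : ∀ (a : ℕ) (W : A.left.Modules) (hW : PicF.IsInvertible W),
      PicGrp.cls W hW = PicGrp.cls S.L S.hL ^ a * (PicGrp.cls S.L S.hL)⁻¹ * PicGrp.cls S.H S.hH.1 ^ n →
      (chi W : ℚ) = q.eval (a : ℚ) := by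
    intro a W hW h
    rw [eval_aeval', chi, hP ![a, 1, n] W hW (by rw [Fin.prod_univ_three]; simpa [hcL'] using h)]
    refine congrArg (fun f => MvPolynomial.eval f P) (funext fun i => ?_)
    fin_cases i <;> simp
  let r : Polynomial ℚ := ∑ j ∈ Finset.range (S.g + 1),
    Polynomial.C (S.Φ.coeff j * (n : ℚ) ^ j) * Polynomial.X ^ (S.g - j)
  have hr : ∀ t : ℚ, t ≠ 0 → r.eval t = t ^ S.g * S.Φ.eval ((n : ℚ) / t) := by
    intro t ht
    rw [Polynomial.eval_finset_sum, Polynomial.eval_eq_sum_range' (Nat.lt_succ_of_le S.natDegree_le),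
      Finset.mul_sum]
    refine Finset.sum_congr rfl fun j hj => ?_
    rw [Polynomial.eval_mul, Polynomial.eval_C, Polynomial.eval_pow, Polynomial.eval_X,
      pow_sub₀ t ht (Nat.le_of_lt_succ (Finset.mem_range.1 hj)), div_pow]
    ring
  have hshift : q = r.comp (Polynomial.X - 1) := RR22.poly_ext 2 fun a ha => by
    obtain ⟨m, rfl⟩ : ∃ m, a = m + 1 := ⟨a - 1, by omega⟩
    obtain ⟨W, hW, hWc⟩ := S.exists_rep m n
    rw [← hq (m + 1) W hW (by rw [hWc, Data.cl, pow_succ, mul_inv_cancel_right]),
      S.chi_rep (show 0 < m by omega) hW hWc, Polynomial.eval_comp]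
    simp only [Polynomial.eval_sub, Polynomial.eval_X, Polynomial.eval_one]
    push_cast
    rw [add_sub_cancel_right, hr _ (Nat.cast_ne_zero.2 (by omega : m ≠ 0))]
  rw [hq 0 _ (M2.isInvertible_tensor hL' (M2.isInvertible_tensorPow S.hH.1 n))
    (by rw [cls_tensor hL' (M2.isInvertible_tensorPow S.hH.1 n), cls_pow S.hH.1, hcL', pow_zero, one_mul]),
    hshift, Polynomial.eval_comp]
  simp only [Polynomial.eval_sub, Polynomial.eval_X, Polynomial.eval_one, Nat.cast_zero, zero_sub]
  rw [hr _ (by norm_num), div_neg, div_one]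

/-- The data of the inverse. -/
def inv {L' : A.left.Modules} (hL' : PicF.IsInvertible L')
    (e : Nonempty (CohB1.tensorMod S.L L' ≅ Coh.structureModule A.left)) : Data A where
  L := L'
  H := S.H
  hL := hL'
  hH := S.hH
  Φ := Polynomial.C ((-1) ^ S.g) * S.Φ.comp (-Polynomial.X)
  hΦ n := by
    rw [S.chi_inverse hL' e n, Polynomial.eval_mul, Polynomial.eval_C, Polynomial.eval_comp, Polynomial.eval_neg,
      Polynomial.eval_X]
  g := S.g
  hg := S.hg

/-- All roots are real and the index counts the positive ones. -/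
theorem card_roots_eq {i : ℕ} (hi : Conc S.L i) :
    Multiset.card S.f.roots = S.Φ.natDegree ∧ i = Multiset.card (S.f.roots.filter fun t => 0 < t) := by
  obtain ⟨L', hL', e⟩ := M2.exists_inverse S.hL
  obtain ⟨hig, hi'⟩ := Index22.conc_inverse_field S.hg S.hL e hi
  have h1 := S.index_le_card_pos hi
  have h2 := (S.inv hL' e).index_le_card_pos hi'
  have hroots : (S.inv hL' e).f.roots = S.f.roots.map fun x => -x := by
    show ((Polynomial.C ((-1 : ℚ) ^ S.g) * S.Φ.comp (-Polynomial.X)).map (algebraMap ℚ ℝ)).roots = _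
    rw [Polynomial.map_mul, Polynomial.map_C, Polynomial.map_comp, Polynomial.map_neg, Polynomial.map_X,
      Polynomial.roots_C_mul _ ((map_ne_zero _).2 (pow_ne_zero _ (by norm_num))), Polynomial.roots_comp_neg_X]
  rw [hroots, Multiset.filter_map, Multiset.card_map] at h2
  have h3 : Multiset.card (S.f.roots.filter fun t => 0 < t) +
      Multiset.card (S.f.roots.filter ((fun t => 0 < t) ∘ fun x => -x)) ≤ Multiset.card S.f.roots := by
    conv_rhs => rw [← Multiset.filter_add_not (fun t : ℝ => 0 < t) S.f.roots]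
    rw [Multiset.card_add]
    refine Nat.add_le_add_left (Multiset.card_le_card (Multiset.monotone_filter_right _ fun t ht => ?_)) _
    simp only [Function.comp_apply] at ht
    simp only [not_lt]
    linarith
  have h4 : Multiset.card S.f.roots ≤ S.Φ.natDegree :=
    (Polynomial.card_roots' _).trans Polynomial.natDegree_map_le
  have h5 := S.natDegree_le
  constructor <;> omega

end Data

end Groth.Agent.Hilb13
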