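import Groth.Agent.Lib.Hilb13.Segment
import Groth.Agent.Lib.Hilb13.Good
import Groth.Agent.Lib.Ample18.Ample

/-!
# The index and the positive roots of the Hilbert polynomial

Along the ray `L ⊗ H^t` the index can change only at roots of the Hilbert polynomial, and at each root
it drops by at most the multiplicity.
-/

universe u

open CategoryTheory Limits MonoidalCategory CartesianMonoidalCategory AlgebraicGeometry TopologicalSpace Opposite
open scoped MonObj GrpObj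

set_option autoImplicit false
set_option linter.style.haveILetI false
set_option linter.unusedSectionVars false
set_option maxHeartbeats 1000000
set_option backward.isDefEq.respectTransparency false
set_option backward.isDefEq.respectTransparency.types false

noncomputable section

namespace Groth.Agent.Hilb13

open Index22

noncomputable local instance instLawHilbRoots13 (Y : Scheme.{u}) : PicGrp.Law Y := M2.law Y

variable {k : Type u} [Field k] {A : Over (Spec (CommRingCat.of k))} [GrpObj A] [IsProper A.hom]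
  [GeometricallyIntegral A.hom]

/-- An invertible and an ample module with their Hilbert polynomial. -/
structure Data (A : Over (Spec (CommRingCat.of k))) where
  /-- the module -/
  L : A.left.Modules
  /-- the polarisation -/
  H : A.left.Modules
  hL : PicF.IsInvertible L
  hH : CohB1.IsAmple H
  /-- the Hilbert polynomial -/
  Φ : Polynomial ℚ
  hΦ : ∀ n : ℕ, Φ.eval (n : ℚ) = (chi (CohB1.tensorMod L (CohB1.tensorPow H n)) : ℚ)
  /-- the dimension -/
  g : ℕ
  hg : topologicalKrullDim A.left = g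

namespace Data

variable (S : Data A)

/-- The Hilbert polynomial over the reals. -/
abbrev f : Polynomial ℝ := S.Φ.map (algebraMap ℚ ℝ)

/-- The class of `L^N ⊗ H^p`. -/
abbrev cl (N p : ℕ) : PicLoc.PicSet A.left := PicGrp.cls S.L S.hL ^ N * PicGrp.cls S.H S.hH.1 ^ p

theorem exists_rep (N p : ℕ) : ∃ (W : A.left.Modules) (hW : PicF.IsInvertible W), PicGrp.cls W hW = S.cl N p := by
  obtain ⟨W, hW, e⟩ := PicGrp.exists_eq_cls (S.cl N p)
  exact ⟨W, hW, e.symm⟩

theorem chi_rep {N p : ℕ} (hN : 0 < N) {W : A.left.Modules} (hW : PicF.IsInvertible W)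
    (h : PicGrp.cls W hW = S.cl N p) : (chi W : ℚ) = (N : ℚ) ^ S.g * S.Φ.eval ((p : ℚ) / N) :=
  chi_eq_pow_mul_eval S.hL S.hH.1 S.hΦ S.hg hN p hW h

theorem eval_f (x : ℚ) : S.f.eval (x : ℝ) = ((S.Φ.eval x : ℚ) : ℝ) := by
  rw [show (x : ℝ) = algebraMap ℚ ℝ x by simp, Polynomial.eval_map, Polynomial.eval₂_at_apply]
  rfl

theorem eval_ne {x : ℚ} (h : S.f.eval (x : ℝ) ≠ 0) : S.Φ.eval x ≠ 0 := fun h0 => h (by
  rw [eval_f, h0, Rat.cast_zero])

theorem cast_num {x : ℚ} (hx : 0 ≤ x) : ((x.num.toNat : ℕ) : ℚ) / (x.den : ℚ) = x := by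
  rw [show ((x.num.toNat : ℕ) : ℚ) = (x.num : ℚ) by
    exact_mod_cast Int.toNat_of_nonneg (Rat.num_nonneg.2 hx)]
  exact Rat.num_div_den x

/-- All representatives at the slope `x` have index `q`. -/
def Idx (x : ℚ) (q : ℕ) : Prop :=
  ∀ N p : ℕ, 0 < N → (p : ℚ) / N = x → ∀ (W : A.left.Modules) (hW : PicF.IsInvertible W),
    PicGrp.cls W hW = S.cl N p → Conc W q

theorem exists_idx {x : ℚ} (hx : 0 ≤ x) (h : S.f.eval (x : ℝ) ≠ 0) : ∃ q, q ≤ S.g ∧ S.Idx x q := by
  have hne : ∀ (N p : ℕ), 0 < N → (p : ℚ) / N = x → ∀ (W : A.left.Modules) (hW : PicF.IsInvertible W),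
      PicGrp.cls W hW = S.cl N p → chi W ≠ 0 := fun N p hN hp W hW hc h0 => by
    have := S.chi_rep hN hW hc
    rw [h0, hp, Int.cast_zero] at this
    exact (mul_ne_zero (pow_ne_zero _ (Nat.cast_ne_zero.2 hN.ne')) (S.eval_ne h)) this.symm
  obtain ⟨W₀, hW₀, hc₀⟩ := S.exists_rep x.den x.num.toNat
  obtain ⟨q, hq, hq₀⟩ := exists_conc hW₀ (hne _ _ x.den_pos (cast_num hx) W₀ hW₀ hc₀) S.hg
  refine ⟨q, hq, fun N p hN hp W hW hc => ?_⟩
  obtain ⟨q', -, hq'⟩ := exists_conc hW (hne N p hN hp W hW hc) S.hg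
  have hcross : p * x.den = x.num.toNat * N := by
    have h' := hp.trans (cast_num hx).symm
    rw [div_eq_div_iff (Nat.cast_ne_zero.2 hN.ne') (Nat.cast_ne_zero.2 x.den_pos.ne')] at h'
    exact_mod_cast h'
  obtain ⟨e⟩ := (PicGrp.cls_eq_cls_iff (M2.isInvertible_tensorPow hW x.den)
    (M2.isInvertible_tensorPow hW₀ N)).1 (by
      rw [cls_pow hW, cls_pow hW₀, hc, hc₀, mul_pow, mul_pow, ← pow_mul, ← pow_mul, ← pow_mul, ← pow_mul,
        hcross, Nat.mul_comm N])
  have := ((Conc_pow hW hq' x.den_pos).congr e).unique (Conc_pow hW₀ hq₀ hN).2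
  rwa [this]

theorem Idx.unique {S : Data A} {x : ℚ} {q q' : ℕ} (hx : 0 ≤ x) (h : S.Idx x q) (h' : S.Idx x q') : q = q' := by
  obtain ⟨W, hW, hc⟩ := S.exists_rep x.den x.num.toNat
  exact (h' _ _ x.den_pos (cast_num hx) W hW hc).unique (h _ _ x.den_pos (cast_num hx) W hW hc).2

theorem idx_zero {i : ℕ} (hi : Conc S.L i) : S.Idx 0 i := by
  intro N p hN hp W hW hc
  obtain rfl : p = 0 := by
    rcases div_eq_zero_iff.1 hp with h | h
    · exact_mod_cast h
    · exact absurd h (Nat.cast_ne_zero.2 hN.ne')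
  obtain ⟨e⟩ := (PicGrp.cls_eq_cls_iff (M2.isInvertible_tensorPow S.hL N) hW).1 (by
    rw [cls_pow S.hL, hc, Data.cl, pow_zero, mul_one])
  exact (Conc_pow S.hL hi hN).congr e

theorem idx_one {M : A.left.Modules} (hM : Nonempty (M ≅ CohB1.tensorMod S.L S.H)) {i : ℕ} (hi : Conc M i) :
    S.Idx 1 i := by
  obtain ⟨eM⟩ := hM
  intro N p hN hp W hW hc
  obtain rfl : p = N := by
    rw [div_eq_one_iff_eq (Nat.cast_ne_zero.2 hN.ne')] at hp
    exact_mod_cast hp
  have hP := M2.isInvertible_tensor S.hL S.hH.1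
  obtain ⟨e⟩ := (PicGrp.cls_eq_cls_iff (M2.isInvertible_tensorPow hP p) hW).1 (by
    rw [cls_pow hP, cls_tensor S.hL S.hH.1, hc, Data.cl, mul_pow])
  exact (Conc_pow hP (hi.congr eM) hN).congr e

theorem f_zero_ne {i : ℕ} (hi : Conc S.L i) : S.f.eval (((0 : ℚ)) : ℝ) ≠ 0 := by
  letI : A.left.Over (Spec (CommRingCat.of k)) := ⟨A.hom⟩
  haveI : IsProper (A.left ↘ Spec (CommRingCat.of k)) := inferInstanceAs (IsProper A.hom)
  have h0 := S.hΦ 0
  rw [Nat.cast_zero] at h0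
  rw [eval_f, Rat.cast_ne_zero, h0, Int.cast_ne_zero,
    chi_congr (M2.isInvertible_tensor S.hL (M2.isInvertible_tensorPow S.hH.1 0)) S.hL (by
      rw [cls_tensor S.hL (M2.isInvertible_tensorPow S.hH.1 0), cls_pow S.hH.1, pow_zero, mul_one])]
  exact hi.euler_ne_zero (Snapper.isCoh_of_isInvertible S.hL)

theorem f_one_ne {M : A.left.Modules} (hM : Nonempty (M ≅ CohB1.tensorMod S.L S.H)) {i : ℕ} (hi : Conc M i) :
    S.f.eval (((1 : ℚ)) : ℝ) ≠ 0 := by
  letI : A.left.Over (Spec (CommRingCat.of k)) := ⟨A.hom⟩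
  haveI : IsProper (A.left ↘ Spec (CommRingCat.of k)) := inferInstanceAs (IsProper A.hom)
  obtain ⟨eM⟩ := hM
  have hP := M2.isInvertible_tensor S.hL S.hH.1
  have h1 := S.hΦ 1
  rw [Nat.cast_one] at h1
  rw [eval_f, Rat.cast_ne_zero, h1, Int.cast_ne_zero,
    chi_congr (M2.isInvertible_tensor S.hL (M2.isInvertible_tensorPow S.hH.1 1)) hP (by
      rw [cls_tensor S.hL (M2.isInvertible_tensorPow S.hH.1 1), cls_tensor S.hL S.hH.1, cls_pow S.hH.1, pow_one])]
  exact (hi.congr eM).euler_ne_zero (Snapper.isCoh_of_isInvertible hP)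

/-- **No root, no change.** -/
theorem idx_eq {x y : ℚ} (hx : 0 ≤ x) (hxy : x ≤ y) {qx qy : ℕ} (hqx : S.Idx x qx) (hqy : S.Idx y qy)
    (h : ∀ t : ℝ, (x : ℝ) ≤ t → t ≤ (y : ℝ) → S.f.eval t ≠ 0) : qx = qy := by
  rcases hxy.eq_or_lt with rfl | hlt
  · exact hqx.unique hx hqy
  set N := x.den * y.den with hNdef
  set a := x.num.toNat * y.den with hadef
  set b := y.num.toNat * x.den with hbdef
  have hN : 0 < N := Nat.mul_pos x.den_pos y.den_pos
  have hNQ : (N : ℚ) ≠ 0 := Nat.cast_ne_zero.2 hN.ne'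
  have hax : (a : ℚ) / N = x := by
    rw [hadef, hNdef, Nat.cast_mul, Nat.cast_mul, mul_div_mul_right _ _ (Nat.cast_ne_zero.2 y.den_pos.ne'),
      cast_num hx]
  have hby : (b : ℚ) / N = y := by
    rw [hbdef, hNdef, Nat.mul_comm x.den, Nat.cast_mul, Nat.cast_mul,
      mul_div_mul_right _ _ (Nat.cast_ne_zero.2 x.den_pos.ne'), cast_num (hx.trans hxy)]
  have hab : a < b := by
    have : (a : ℚ) < b := by
      have := (div_lt_div_iff_of_pos_right (c := (N : ℚ)) (Nat.cast_pos.2 hN)).1 (hax.trans_lt (hlt.trans_eq hby.symm))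
      exact this
    exact_mod_cast this
  obtain ⟨c, hc⟩ := Nat.exists_eq_add_of_le hab.le
  have hc0 : 0 < c := by omega
  obtain ⟨W, hW, hWc⟩ := S.exists_rep N a
  have hH' : CohB1.IsAmple (CohB1.tensorPow S.H c) := (Amp.isAmple_tensorPow_iff S.hH.1 hc0).2 S.hH
  let M' := CohB1.tensorMod W (CohB1.tensorPow S.H c)
  have hM' : PicF.IsInvertible M' := M2.isInvertible_tensor hW hH'.1
  have hM'c : PicGrp.cls M' hM' = S.cl N b := by
    rw [cls_tensor hW hH'.1, hWc, cls_pow S.hH.1, mul_assoc, ← pow_add, ← hc]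
  let Φ' : Polynomial ℚ := Polynomial.C ((N : ℚ) ^ S.g) *
    S.Φ.comp (Polynomial.C ((a : ℚ) / N) + Polynomial.C ((c : ℚ) / N) * Polynomial.X)
  refine index_eq_of_no_root (L := W) (H := CohB1.tensorPow S.H c) (M := M') (Φ := Φ') hW hH' ⟨Iso.refl _⟩
    (hqx N a hN hax W hW hWc) (hqy N b hN hby M' hM' hM'c) (fun n => ?_) fun t ht0 ht1 => ?_
  · rw [S.chi_rep hN (p := a + c * n)
      (M2.isInvertible_tensor hW (M2.isInvertible_tensorPow hH'.1 n))
      (by rw [cls_tensor hW (M2.isInvertible_tensorPow hH'.1 n), cls_pow hH'.1, cls_pow S.hH.1, hWc, mul_assoc,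
        ← pow_mul, ← pow_add])]
    simp only [Φ', Polynomial.eval_mul, Polynomial.eval_C, Polynomial.eval_comp, Polynomial.eval_add,
      Polynomial.eval_X]
    push_cast
    ring_nf
  · simp only [Φ', Polynomial.map_mul, Polynomial.map_C, Polynomial.map_comp, Polynomial.map_add, Polynomial.map_X,
      Polynomial.eval_mul, Polynomial.eval_C, Polynomial.eval_comp, Polynomial.eval_add, Polynomial.eval_X]
    refine mul_ne_zero ((map_ne_zero _).2 (pow_ne_zero _ hNQ)) (h _ ?_ ?_)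
    all_goals
      have hxR : (x : ℝ) = (a : ℝ) / N := by rw [← hax]; simp
      have hyR : (y : ℝ) = (a : ℝ) / N + (c : ℝ) / N := by rw [← hby, hc]; simp [add_div]
      have hcN : (0 : ℝ) ≤ (c : ℝ) / N := by positivity
      simp only [map_div₀, map_natCast, hxR, hyR]
      nlinarith

/-- **One root: the index drops by at most the multiplicity.** -/
theorem idx_le_one_root {x y : ℚ} {τ : ℝ} (hx : 0 ≤ x) (hxτ : (x : ℝ) < τ) (hτy : τ < (y : ℝ)) {qx qy : ℕ}
    (hqx : S.Idx x qx) (hqy : S.Idx y qy)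
    (huniq : ∀ t : ℝ, (x : ℝ) ≤ t → t ≤ (y : ℝ) → S.f.eval t = 0 → t = τ) :
    qx ≤ qy + S.f.rootMultiplicity τ := by
  letI : A.left.Over (Spec (CommRingCat.of k)) := ⟨A.hom⟩
  haveI : IsProper (A.left ↘ Spec (CommRingCat.of k)) := inferInstanceAs (IsProper A.hom)
  haveI : IsIntegral A.left := GeometricallyIntegral.isIntegral_of_subsingleton A.hom
  have hxR : (0 : ℝ) ≤ (x : ℝ) := Rat.cast_nonneg.2 hx
  have hy : 0 < y := by exact_mod_cast (hxR.trans_lt hxτ).trans hτy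
  set mu := S.f.rootMultiplicity τ with hmu
  by_contra hlt
  obtain ⟨r, hr⟩ := Nat.exists_eq_add_of_lt (not_le.1 hlt)
  set s := mu + r + 1 with hs
  have hqs : qx = qy + s := by omega
  have hf0 : S.f ≠ 0 := fun h0 => by
    have := huniq x le_rfl (hxτ.trans hτy).le (by rw [h0, Polynomial.eval_zero])
    linarith
  obtain ⟨ψ, hψ, hψτ⟩ := Polynomial.exists_eq_pow_rootMultiplicity_mul_and_not_dvd S.f hf0 τ
  have hψ0 : ψ.eval τ ≠ 0 := fun h0 => hψτ (Polynomial.dvd_iff_isRoot.2 h0)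
  obtain ⟨F, hF, hstep, hFc⟩ := exists_family ![S.L, S.H] (fun j => by fin_cases j; exacts [S.hL, S.hH.1])
  have hFcl : ∀ N p : ℕ, PicGrp.cls (F ![(N : ℤ), (p : ℤ)]) (hF _) = S.cl N p := fun N p => by
    rw [hFc, Fin.prod_univ_two]
    simp [zpow_natCast]
  -- the decay constant
  obtain ⟨C, hC⟩ := decay (k := k) (L := S.L) (H := S.H) S.hL S.hH.1 hF hstep qy ⌈y⌉₊ S.g
    (Coh.structureModule A.left) (M1.isCoh_structureModule A.left)
    (Topology.IsInducing.subtypeVal.topologicalKrullDim_le.trans S.hg.le)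
  set c₀ := |ψ.eval τ| / 2
  have hc₀ : 0 < c₀ := by positivity
  obtain ⟨δ₀, hδ₀, hcont⟩ := Metric.continuousAt_iff.1 (ψ.continuous.continuousAt (x := τ)) c₀ hc₀
  obtain ⟨δ, hδ, hδ0, hδx, hδy, hδ1, hδC⟩ : ∃ δ : ℝ, 0 < δ ∧ δ ≤ δ₀ ∧ δ ≤ τ - x ∧ δ ≤ (y : ℝ) - τ ∧ δ ≤ 1 ∧
      (C : ℝ) * 3 ^ s * 2 ^ mu * δ < c₀ := by
    let K : ℝ := (C : ℝ) * 3 ^ s * 2 ^ mu
    have hK : 0 ≤ K := by positivity
    refine ⟨min (min δ₀ (τ - x)) (min ((y : ℝ) - τ) (min 1 (c₀ / (2 * (K + 1))))), ?_, ?_, ?_, ?_, ?_, ?_⟩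
    · have : 0 < c₀ / (2 * (K + 1)) := by positivity
      simp only [lt_min_iff]
      exact ⟨⟨hδ₀, by linarith⟩, by linarith, one_pos, this⟩
    · exact (min_le_left _ _).trans (min_le_left _ _)
    · exact (min_le_left _ _).trans (min_le_right _ _)
    · exact (min_le_right _ _).trans (min_le_left _ _)
    · exact (min_le_right _ _).trans ((min_le_right _ _).trans (min_le_left _ _))
    · refine lt_of_le_of_lt (mul_le_mul_of_nonneg_left
        ((min_le_right _ _).trans ((min_le_right _ _).trans (min_le_right _ _))) hK) ?_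
      rw [mul_div_assoc', div_lt_iff₀ (by positivity)]
      nlinarith
  obtain ⟨σ, hσ1, hσ2⟩ := exists_rat_btwn (lt_add_of_pos_right τ hδ)
  obtain ⟨σ₀, hσ₀1, hσ₀2⟩ := exists_rat_btwn hσ1
  obtain ⟨u, hu1, hu2⟩ := exists_rat_btwn (show τ - δ < τ - δ / 2 by linarith)
  have hxu : x ≤ u := by exact_mod_cast (show (x : ℝ) ≤ u by linarith)
  have hσy : σ ≤ y := by exact_mod_cast (show (σ : ℝ) ≤ y by linarith)
  have huσ : u < σ := by exact_mod_cast (show (u : ℝ) < σ by linarith)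
  have hu0 : 0 ≤ u := hx.trans hxu
  have hσ₀σ : σ₀ < σ := by exact_mod_cast hσ₀2
  have hσ₀0 : 0 ≤ σ₀ := by exact_mod_cast (show (0 : ℝ) ≤ σ₀ by linarith)
  -- the indices at the auxiliary slopes
  have hnoroot : ∀ t : ℝ, (x : ℝ) ≤ t → t ≤ (y : ℝ) → t ≠ τ → S.f.eval t ≠ 0 :=
    fun t h1 h2 h3 h0 => h3 (huniq t h1 h2 h0)
  have hIu : S.Idx u qx := by
    obtain ⟨q, -, hq⟩ := S.exists_idx hu0 (hnoroot u (by exact_mod_cast hxu) (by linarith) (by linarith))
    rwa [S.idx_eq hx hxu hqx hq fun t h1 h2 => hnoroot t h1 (by linarith) (by linarith)]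
  have hright : ∀ z : ℚ, τ < (z : ℝ) → z ≤ σ → S.Idx z qy := fun z hz hzσ => by
    have hzR : (z : ℝ) ≤ σ := by exact_mod_cast hzσ
    have hσR : (σ : ℝ) ≤ y := by exact_mod_cast hσy
    obtain ⟨q, -, hq⟩ := S.exists_idx (x := z) (by exact_mod_cast (show (0 : ℝ) ≤ z by linarith))
      (hnoroot z (by linarith) (by linarith) (by linarith))
    rwa [← S.idx_eq (by exact_mod_cast (show (0 : ℝ) ≤ z by linarith)) (hzσ.trans hσy) hq hqy
      fun t h1 h2 => hnoroot t (by linarith) h2 (by linarith)]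
  -- common denominators
  set D := σ.den * u.den with hDdef
  set p := σ.num.toNat * u.den with hpdef
  set j := u.num.toNat * σ.den with hjdef
  have hD : 0 < D := Nat.mul_pos σ.den_pos u.den_pos
  have hDQ : (0 : ℚ) < D := Nat.cast_pos.2 hD
  have hpσ : (p : ℚ) / D = σ := by
    rw [hpdef, hDdef, Nat.cast_mul, Nat.cast_mul, mul_div_mul_right _ _ (Nat.cast_ne_zero.2 u.den_pos.ne'),
      cast_num (hu0.trans huσ.le)]
  have hju : (j : ℚ) / D = u := by
    rw [hjdef, hDdef, Nat.mul_comm σ.den, Nat.cast_mul, Nat.cast_mul,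
      mul_div_mul_right _ _ (Nat.cast_ne_zero.2 σ.den_pos.ne'), cast_num hu0]
  have hpD : p ≤ ⌈y⌉₊ * D := by
    have h1 : (p : ℚ) / D ≤ (⌈y⌉₊ : ℕ) := hpσ.trans_le (hσy.trans (Nat.le_ceil y))
    rw [div_le_iff₀ hDQ] at h1
    exact_mod_cast h1
  have hjp : j ≤ p := by
    have h1 : (j : ℚ) / D ≤ (p : ℚ) / D := by rw [hju, hpσ]; exact huσ.le
    rw [div_le_div_iff_of_pos_right hDQ] at h1
    exact_mod_cast h1
  have hgood : Good k F qy D p := by
    refine good_of_vanish S.hH hF hstep fun r' => ?_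
    obtain ⟨n₀, hn₀⟩ := exists_nat_gt ((r' : ℚ) / ((σ - σ₀) * D))
    refine ⟨n₀ + 1, fun n hn => ?_⟩
    have hn' : (r' : ℚ) < (σ - σ₀) * D * n := by
      rw [div_lt_iff₀ (mul_pos (sub_pos.2 hσ₀σ) hDQ)] at hn₀
      have : (n₀ : ℚ) ≤ n := by exact_mod_cast (show n₀ ≤ n by omega)
      nlinarith [mul_pos (sub_pos.2 hσ₀σ) hDQ]
    have hpn : (r' : ℚ) + σ₀ * ((D : ℚ) * n) < (p : ℚ) * n := by
      have : (p : ℚ) = σ * D := (div_eq_iff hDQ.ne').1 hpσ
      rw [this]; linarith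
    have hrp : r' ≤ p * n := by
      have : (r' : ℚ) ≤ (p : ℚ) * n := le_trans (le_add_of_nonneg_right (by positivity)) hpn.le
      exact_mod_cast this
    refine ⟨hrp, fun q hq => ?_⟩
    set z : ℚ := ((p * n - r' : ℕ) : ℚ) / ((D * n : ℕ) : ℚ) with hzdef
    have hN : 0 < D * n := Nat.mul_pos hD (by omega)
    have hz1 : σ₀ < z := by
      rw [hzdef, lt_div_iff₀ (Nat.cast_pos.2 hN), Nat.cast_sub hrp]
      push_cast
      linarith
    have hz2 : z ≤ σ := by
      rw [hzdef, div_le_iff₀ (Nat.cast_pos.2 hN), Nat.cast_sub hrp]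
      push_cast
      have : (p : ℚ) = σ * D := (div_eq_iff hDQ.ne').1 hpσ
      rw [this]
      have : (0 : ℚ) ≤ r' := Nat.cast_nonneg _
      linarith
    have hconc := hright z (hσ₀1.trans (by exact_mod_cast hz1)) hz2 (D * n) (p * n - r') hN rfl _ (hF _)
      (hFcl _ _)
    haveI := hconc.1 q hq.ne'
    exact Module.finrank_zero_of_subsingleton
  obtain ⟨n₁, hn₁⟩ := hC D p hD hpD hgood
  obtain ⟨n₂, hn₂⟩ := exists_nat_gt (1 / δ)
  set n := n₁ + n₂ + 1
  have hb := hn₁ n (by omega) (j * n) (Nat.mul_le_mul_right n hjp) s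
  have hN : 0 < D * n := Nat.mul_pos hD (by omega)
  have hW := hF ![((D * n : ℕ) : ℤ), ((j * n : ℕ) : ℤ)]
  have hconc := hIu (D * n) (j * n) hN (by
    rw [Nat.cast_mul (α := ℚ) j n, Nat.cast_mul (α := ℚ) D n, mul_div_mul_right _ _ (Nat.cast_ne_zero.2 (show n ≠ 0 by omega)), hju])
    _ hW (hFcl _ _)
  rw [← hqs, Growth13.hdim_iso k (M2.tensorLUnit _), ← natAbs_chi_eq hW hconc] at hb
  have hval := S.chi_rep hN hW (hFcl _ _)
  rw [Nat.cast_mul (α := ℚ) j n, Nat.cast_mul (α := ℚ) D n, mul_div_mul_right _ _ (Nat.cast_ne_zero.2 (show n ≠ 0 by omega)),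
    hju] at hval
  set N : ℝ := ((D * n : ℕ) : ℝ) with hNdef
  have hNpos : 0 < N := Nat.cast_pos.2 hN
  set Δ : ℝ := ((p * n - j * n + 1 : ℕ) : ℝ) with hΔdef
  have habs : (((chi (F ![((D * n : ℕ) : ℤ), ((j * n : ℕ) : ℤ)])).natAbs : ℕ) : ℝ) = N ^ S.g * |S.f.eval (u : ℝ)| := by
    have h1 := congrArg (fun v : ℚ => (v : ℝ)) hval
    generalize chi (F ![((D * n : ℕ) : ℤ), ((j * n : ℕ) : ℤ)]) = c at h1 ⊢
    push_cast at h1
    rw [Nat.cast_natAbs, Int.cast_abs, h1, abs_mul, eval_f]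
    congr 1
    rw [abs_of_nonneg (by positivity), hNdef, hDdef]
    push_cast
    ring
  have hbR : (((chi (F ![((D * n : ℕ) : ℤ), ((j * n : ℕ) : ℤ)])).natAbs : ℕ) : ℝ) * N ^ s ≤
      (C : ℝ) * Δ ^ s * N ^ S.g := by
    rw [hΔdef, hNdef]
    exact_mod_cast hb
  rw [habs] at hbR
  have hmain : |S.f.eval (u : ℝ)| * N ^ s ≤ (C : ℝ) * Δ ^ s := by
    refine le_of_mul_le_mul_right ?_ (pow_pos hNpos S.g)
    linarith
  have hΔ : Δ ≤ 3 * δ * N := by
    rw [hΔdef, hNdef]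
    push_cast [Nat.cast_sub (Nat.mul_le_mul_right n hjp)]
    have h1 : (p : ℝ) = σ * D := by
      have := (div_eq_iff hDQ.ne').1 hpσ
      exact_mod_cast this
    have h2 : (j : ℝ) = u * D := by
      have := (div_eq_iff hDQ.ne').1 hju
      exact_mod_cast this
    have h3 : (1 : ℝ) ≤ δ * ((D : ℝ) * n) := by
      rw [div_lt_iff₀ hδ] at hn₂
      have h4 : (n₂ : ℝ) ≤ (D : ℝ) * n := by
        have : n₂ ≤ D * n := le_trans (by omega : n₂ ≤ n) (Nat.le_mul_of_pos_left _ hD)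
        exact_mod_cast this
      nlinarith
    rw [h1, h2]
    have h5 : ((σ : ℝ) - u) * ((D : ℝ) * n) ≤ 2 * δ * ((D : ℝ) * n) :=
      mul_le_mul_of_nonneg_right (by linarith) (by positivity)
    linarith
  have hfu : |S.f.eval (u : ℝ)| ≤ (C : ℝ) * (3 * δ) ^ s := by
    refine le_of_mul_le_mul_right (hmain.trans ?_) (pow_pos hNpos s)
    rw [mul_assoc, ← mul_pow]
    exact mul_le_mul_of_nonneg_left (pow_le_pow_left₀ (Nat.cast_nonneg _) hΔ s) (Nat.cast_nonneg C)
  have hψu : c₀ ≤ |ψ.eval (u : ℝ)| := by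
    have := hcont (x := (u : ℝ)) (by
      rw [Real.dist_eq, abs_lt]
      constructor <;> linarith)
    rw [Real.dist_eq] at this
    have h1 := abs_sub_abs_le_abs_sub (ψ.eval τ) (ψ.eval (u : ℝ))
    rw [abs_sub_comm] at this
    have : |ψ.eval τ| = 2 * c₀ := by simp only [c₀]; ring
    linarith
  have hlow : c₀ * (δ / 2) ^ mu ≤ |S.f.eval (u : ℝ)| := by
    rw [hψ, Polynomial.eval_mul, Polynomial.eval_pow, Polynomial.eval_sub, Polynomial.eval_X, Polynomial.eval_C,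
      abs_mul, abs_pow, ← hmu, mul_comm c₀]
    refine mul_le_mul (pow_le_pow_left₀ (by positivity) ?_ mu) hψu hc₀.le (by positivity)
    rw [abs_sub_comm, abs_of_nonneg (by linarith)]
    linarith
  have hpow : (3 * δ) ^ s ≤ 3 ^ s * δ ^ mu * δ := by
    rw [mul_pow, hs, mul_assoc, ← pow_succ, pow_add δ (mu + r), add_comm mu r, pow_add δ r, mul_assoc, ← pow_add]
    exact mul_le_mul_of_nonneg_left (mul_le_of_le_one_left (by positivity) (pow_le_one₀ hδ.le hδ1)) (by positivity)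
  have hfin : c₀ * (δ / 2) ^ mu ≤ (C : ℝ) * 3 ^ s * δ ^ mu * δ := by
    refine hlow.trans (hfu.trans ?_)
    calc (C : ℝ) * (3 * δ) ^ s ≤ C * (3 ^ s * δ ^ mu * δ) := mul_le_mul_of_nonneg_left hpow (Nat.cast_nonneg C)
      _ = _ := by ring
  rw [div_pow, mul_div_assoc', div_le_iff₀ (by positivity)] at hfin
  have : c₀ * δ ^ mu ≤ ((C : ℝ) * 3 ^ s * 2 ^ mu * δ) * δ ^ mu := hfin.trans_eq (by ring)
  exact absurd (le_of_mul_le_mul_right this (pow_pos hδ mu)) (not_le.2 hδC)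

/-- The index drops by at most the number of roots in between. -/
theorem idx_le_roots : ∀ (m : ℕ) {x y : ℚ}, 0 ≤ x → x ≤ y → S.f.eval (x : ℝ) ≠ 0 → S.f.eval (y : ℝ) ≠ 0 →
    (S.f.roots.toFinset.filter fun t => (x : ℝ) < t ∧ t < (y : ℝ)).card ≤ m → ∀ {qx qy : ℕ},
    S.Idx x qx → S.Idx y qy →
    qx ≤ qy + Multiset.card (S.f.roots.filter fun t => (x : ℝ) < t ∧ t < (y : ℝ)) := by
  classical
  intro m
  induction m with
  | zero =>
    intro x y hx hxy hfx hfy hm qx qy hqx hqy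
    rw [S.idx_eq hx hxy hqx hqy fun t h1 h2 h0 => ?_]
    · exact Nat.le_add_right _ _
    have hne1 : (x : ℝ) ≠ t := fun e => hfx (e ▸ h0)
    have hne2 : t ≠ (y : ℝ) := fun e => hfy (e ▸ h0)
    have hmem : t ∈ S.f.roots.toFinset.filter fun t => (x : ℝ) < t ∧ t < (y : ℝ) :=
      Finset.mem_filter.2 ⟨Multiset.mem_toFinset.2 ((Polynomial.mem_roots (fun h => hfx (by simp [h]))).2 h0),
        lt_of_le_of_ne h1 hne1, lt_of_le_of_ne h2 hne2⟩
    rw [Nat.le_zero, Finset.card_eq_zero] at hm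
    simp [hm] at hmem
  | succ m ih =>
    intro x y hx hxy hfx hfy hm qx qy hqx hqy
    set s := S.f.roots.toFinset.filter fun t => (x : ℝ) < t ∧ t < (y : ℝ) with hs
    by_cases hne : s.Nonempty
    swap
    · exact ih hx hxy hfx hfy (by rw [← hs, Finset.not_nonempty_iff_eq_empty.1 hne]; simp) hqx hqy
    have hf0 : S.f ≠ 0 := fun h => hfx (by simp [h])
    set τ := s.min' hne
    obtain ⟨hτr, hxτ, hτy⟩ := Finset.mem_filter.1 (s.min'_mem hne)
    obtain ⟨z', hτz', hz'y, hz'⟩ : ∃ z' : ℝ, τ < z' ∧ z' ≤ (y : ℝ) ∧ ∀ t, τ < t → t < z' → t ∉ s := by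
      by_cases he : (s.erase τ).Nonempty
      · refine ⟨(s.erase τ).min' he, ?_, ?_, fun t h1 h2 ht => ?_⟩
        · obtain ⟨h1, h2⟩ := Finset.mem_erase.1 ((s.erase τ).min'_mem he)
          exact lt_of_le_of_ne (s.min'_le _ h2) h1.symm
        · exact (Finset.mem_filter.1 (Finset.mem_erase.1 ((s.erase τ).min'_mem he)).2).2.2.le
        · exact not_le.2 h2 ((s.erase τ).min'_le t (Finset.mem_erase.2 ⟨h1.ne', ht⟩))
      · refine ⟨y, hτy, le_rfl, fun t h1 _ ht => he ⟨t, Finset.mem_erase.2 ⟨h1.ne', ht⟩⟩⟩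
    obtain ⟨z, hτz, hzz'⟩ := exists_rat_btwn hτz'
    have hzy : z ≤ y := by exact_mod_cast (show (z : ℝ) ≤ y by linarith)
    have hxz : x ≤ z := by exact_mod_cast (show (x : ℝ) ≤ z by linarith)
    have hmem : ∀ t : ℝ, (x : ℝ) < t → t < (y : ℝ) → S.f.eval t = 0 → t ∈ s := fun t h1 h2 h0 =>
      Finset.mem_filter.2 ⟨Multiset.mem_toFinset.2 ((Polynomial.mem_roots hf0).2 h0), h1, h2⟩
    have hfz : S.f.eval (z : ℝ) ≠ 0 := fun h0 =>
      hz' z hτz hzz' (hmem z (by linarith) (by linarith) h0)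
    obtain ⟨qz, -, hqz⟩ := S.exists_idx (hx.trans hxz) hfz
    have h1 := S.idx_le_one_root hx hxτ hτz hqx hqz fun t h1 h2 h0 => by
      have hts := hmem t (lt_of_le_of_ne h1 fun e => hfx (e ▸ h0)) (by linarith) h0
      refine le_antisymm (not_lt.1 fun h => hz' t h (by linarith) hts) (s.min'_le t hts)
    have hsub : (S.f.roots.toFinset.filter fun t => (z : ℝ) < t ∧ t < (y : ℝ)) ⊆ s.erase τ := fun t ht => by
      obtain ⟨a1, a2, a3⟩ := Finset.mem_filter.1 ht
      exact Finset.mem_erase.2 ⟨fun e => by linarith [e ▸ a2], Finset.mem_filter.2 ⟨a1, by linarith, a3⟩⟩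
    have h2 := ih (hx.trans hxz) hzy hfz hfy ((Finset.card_le_card hsub).trans (by
      rw [Finset.card_erase_of_mem (s.min'_mem hne)]
      omega)) hqz hqy
    have h3 : S.f.rootMultiplicity τ +
        Multiset.card (S.f.roots.filter fun t => (z : ℝ) < t ∧ t < (y : ℝ)) ≤
        Multiset.card (S.f.roots.filter fun t => (x : ℝ) < t ∧ t < (y : ℝ)) := by
      rw [← Polynomial.count_roots, ← Multiset.card_replicate (S.f.roots.count τ) τ, ← Multiset.filter_eq',
        ← Multiset.card_add]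
      refine Multiset.card_le_card (Multiset.le_iff_count.2 fun t => ?_)
      simp only [Multiset.count_add, Multiset.count_filter]
      by_cases ht : t = τ
      · subst ht
        rw [if_pos rfl, if_neg (fun h => by linarith [h.1]), if_pos ⟨hxτ, hτy⟩, add_zero]
      · rw [if_neg ht, zero_add]
        split_ifs with a b
        · exact le_rfl
        · exact absurd ⟨lt_of_le_of_lt (by exact_mod_cast hxz) a.1, a.2⟩ b
        · exact Nat.zero_le _
        · exact le_rfl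
    simp only [τ] at h1 h3
    omega

/-- The index is at most the number of positive roots. -/
theorem index_le_card_pos {i : ℕ} (hi : Conc S.L i) :
    i ≤ Multiset.card (S.f.roots.filter fun t => 0 < t) := by
  classical
  letI : A.left.Over (Spec (CommRingCat.of k)) := ⟨A.hom⟩
  haveI : IsProper (A.left ↘ Spec (CommRingCat.of k)) := inferInstanceAs (IsProper A.hom)
  haveI : IsNoetherian A.left := CohFound.isNoetherian_of_isProper A.hom
  obtain ⟨n₀, hn₀⟩ := CohFound.exists_vanishing_all A.hom S.hH (Snapper.isCoh_of_isInvertible S.hL)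
  obtain ⟨B, hB⟩ := (S.f.roots.toFinset.finite_toSet).bddAbove
  obtain ⟨n, hn⟩ := exists_nat_gt (max B (n₀ : ℝ))
  have hnB : B < (n : ℝ) := lt_of_le_of_lt (le_max_left _ _) hn
  have hn0 : n₀ ≤ n := by exact_mod_cast ((le_max_right B (n₀ : ℝ)).trans_lt hn).le
  have h0 : S.f.eval (((0 : ℚ)) : ℝ) ≠ 0 := S.f_zero_ne hi
  have hfn : S.f.eval (((n : ℚ)) : ℝ) ≠ 0 := fun h => by
    have : ((n : ℚ) : ℝ) ≤ B := hB (Multiset.mem_toFinset.2 ((Polynomial.mem_roots
      (fun hz => h0 (by simp [hz]))).2 h))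
    push_cast at this
    linarith
  obtain ⟨q, -, hq⟩ := S.exists_idx (x := (n : ℚ)) (Nat.cast_nonneg n) hfn
  obtain ⟨W, hW, hWc⟩ := S.exists_rep 1 n
  have hT := M2.isInvertible_tensor S.hL (M2.isInvertible_tensorPow S.hH.1 n)
  obtain ⟨e⟩ := (PicGrp.cls_eq_cls_iff hW hT).1 (by
    rw [hWc, cls_tensor S.hL (M2.isInvertible_tensorPow S.hH.1 n), cls_pow S.hH.1, Data.cl, pow_one])
  have hc := (hq 1 n one_pos (by simp) W hW hWc).congr e
  have hq0 : q = 0 := by
    by_contra hne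
    exact not_subsingleton_iff_nontrivial.2 hc.2
      ((CohFound.subsingleton_HH_iff _ q).2 (hn₀ n hn0 q (Nat.pos_of_ne_zero hne)))
  have hle := S.idx_le_roots _ le_rfl (Nat.cast_nonneg n) h0 hfn le_rfl (S.idx_zero hi) hq
  rw [hq0, zero_add] at hle
  refine hle.trans (Multiset.card_le_card (Multiset.monotone_filter_right _ fun t ht => ?_))
  have := ht.1
  push_cast at this
  exact this

end Data

end Groth.Agent.Hilb13
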