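import Groth.Agent.Lib.Growth13.Bound
import Groth.Agent.Lib.RR22.Poly
import Groth.Agent.Lib.RR22.Classify
import Groth.Agent.Lib.Index22.Descend
import Groth.Agent.Lib.NumPoly18.Big
import Groth.Agent.Lib.NumPoly18.HodgeIndex

/-!
# The index along a segment in the Picard group of an abelian variety

If the Hilbert polynomial of `L` with respect to an ample `H` has no root in `[0, 1]`, the index is
constant on the segment from `L` to `L ⊗ H`.
-/

universe u

open CategoryTheory Limits MonoidalCategory CartesianMonoidalCategory AlgebraicGeometry TopologicalSpace Opposite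
open scoped MonObj GrpObj

set_option autoImplicit false
set_option linter.style.haveILetI false
set_option linter.unusedSectionVars false
set_option maxHeartbeats 1000000
set_option backward.isDefEq.respectTransparency false
set_option backward.isDefEq.respectTransparency.types false

noncomputable section

namespace Groth.Agent.Hilb13

open Index22

noncomputable local instance instLawHilb13 (Y : Scheme.{u}) : PicGrp.Law Y := M2.law Y

theorem eval_aeval' {σ : Type} (R : MvPolynomial σ ℚ) (b : σ → Polynomial ℚ) (t : ℚ) :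
    (MvPolynomial.aeval b R : Polynomial ℚ).eval t = MvPolynomial.eval (fun i => (b i).eval t) R := by
  induction R using MvPolynomial.induction_on with
  | C a => simp
  | add a a' ha hb => simp only [map_add, Polynomial.eval_add, ha, hb]
  | mul_X a i ha => simp only [map_mul, Polynomial.eval_mul, ha, MvPolynomial.aeval_X, MvPolynomial.eval_X]

section Cls

variable {Y : Scheme.{u}}

theorem cls_tensor {L M : Y.Modules} (hL : PicF.IsInvertible L) (hM : PicF.IsInvertible M) :
    PicGrp.cls (CohB1.tensorMod L M) (M2.isInvertible_tensor hL hM) = PicGrp.cls L hL * PicGrp.cls M hM :=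
  Subtype.ext (by rw [PicGrp.mul_val, PicGrp.cls_val, PicGrp.cls_val, PicGrp.cls_val, PicGrp.mulCl_cl])

theorem cls_pow {L : Y.Modules} (hL : PicF.IsInvertible L) (n : ℕ) :
    PicGrp.cls (CohB1.tensorPow L n) (M2.isInvertible_tensorPow hL n) = PicGrp.cls L hL ^ n :=
  Subtype.ext (by rw [PicGrp.cls_pow_val, PicGrp.cls_val])

/-- A twisting family through given invertible modules, with exponents in `ℤ`. -/
theorem exists_family {r : ℕ} (Lb : Fin r → Y.Modules) (hLb : ∀ j, PicF.IsInvertible (Lb j)) :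
    ∃ (F : (Fin r → ℤ) → Y.Modules) (hF : ∀ a, PicF.IsInvertible (F a)),
      (∀ a j, Nonempty (F (a + Pi.single j 1) ≅ CohB1.tensorMod (F a) (Lb j))) ∧
      ∀ a, PicGrp.cls (F a) (hF a) = ∏ j, PicGrp.cls (Lb j) (hLb j) ^ a j := by
  choose F hF he using fun a : Fin r → ℤ => PicGrp.exists_eq_cls (∏ j, PicGrp.cls (Lb j) (hLb j) ^ a j)
  refine ⟨F, hF, fun a j => (PicGrp.cls_eq_cls_iff (hF _) (M2.isInvertible_tensor (hF a) (hLb j))).1 ?_,
    fun a => (he a).symm⟩
  rw [cls_tensor (hF a) (hLb j), ← he, ← he]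
  simp only [Pi.add_apply, zpow_add, Finset.prod_mul_distrib]
  congr 1
  rw [Finset.prod_eq_single j (fun i _ hi => by rw [Pi.single_eq_of_ne hi, zpow_zero])
    (fun h => absurd (Finset.mem_univ j) h), Pi.single_eq_same, zpow_one]

end Cls

variable {k : Type u} [Field k] {A : Over (Spec (CommRingCat.of k))} [GrpObj A] [IsProper A.hom]
  [GeometricallyIntegral A.hom]

/-- The Euler characteristic over the structure map. -/
abbrev chi (N : A.left.Modules) : ℤ := @Curv2.euler k _ A.left ⟨A.hom⟩ N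

theorem chi_congr {M N : A.left.Modules} (hM : PicF.IsInvertible M) (hN : PicF.IsInvertible N)
    (h : PicGrp.cls M hM = PicGrp.cls N hN) : chi M = chi N := by
  letI : A.left.Over (Spec (CommRingCat.of k)) := ⟨A.hom⟩
  obtain ⟨e⟩ := (PicGrp.cls_eq_cls_iff _ _).1 h
  exact CurveCoh17.euler_iso e

/-- A module with nonzero Euler characteristic is concentrated in one degree, over any field. -/
theorem exists_conc {N : A.left.Modules} (hN : PicF.IsInvertible N) (h : chi N ≠ 0) {g : ℕ}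
    (hg : topologicalKrullDim A.left = g) : ∃ q, q ≤ g ∧ Conc N q := by
  have hP := PicLoc.isInvertible_pullback (prj A) hN
  have h' : chi (A := bar A) ((Scheme.Modules.pullback (prj A)).obj N) ≠ 0 := by
    rw [chi, RR22.euler_bar hN]; exact h
  obtain ⟨D, hD, e⟩ := M2.exists_inverse hP
  obtain ⟨q, hq, hc, -⟩ := exists_index hP (nd_of_euler_ne hP h') hD e ((topologicalKrullDim_bar (A := A)).trans hg)
  exact ⟨q, hq, (conc_bar_iff hN q).1 hc⟩

theorem Conc_pow {N : A.left.Modules} (hN : PicF.IsInvertible N) {q : ℕ} (h : Conc N q) {m : ℕ} (hm : 0 < m) :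
    Conc (CohB1.tensorPow N m) q :=
  (conc_bar_iff (M2.isInvertible_tensorPow hN m) q).1
    ((conc_pow (PicLoc.isInvertible_pullback (prj A) hN) ((conc_bar_iff hN q).2 h) hm).congr
      (M2.pullTensorPowIso (prj A) N m).symm)

theorem natAbs_chi_eq {N : A.left.Modules} (hN : PicF.IsInvertible N) {q : ℕ} (h : Conc N q) :
    (chi N).natAbs = @Growth13.hdim A.left k _ ⟨A.hom⟩ N q := by
  letI : A.left.Over (Spec (CommRingCat.of k)) := ⟨A.hom⟩
  rw [chi, Curv2.euler, finsum_eq_single _ q fun j hj => by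
    haveI := h.1 j hj
    rw [Module.finrank_zero_of_subsingleton, Nat.cast_zero, mul_zero]]
  simp [Growth13.hdim, Int.natAbs_mul, Int.natAbs_pow]

section Bar

variable [IsAlgClosed k]

theorem chi_pow_of_isAlgClosed {N : A.left.Modules} (hN : PicF.IsInvertible N) {g : ℕ}
    (hg : topologicalKrullDim A.left = g) {m : ℕ} (hm : 0 < m) :
    chi (CohB1.tensorPow N m) = (m : ℤ) ^ g * chi N := by
  letI : A.left.Over (Spec (CommRingCat.of k)) := ⟨A.hom⟩
  by_cases hnd : Nd (PicGrp.cls N hN)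
  · haveI : IsIntegral A.left := GeometricallyIntegral.isIntegral_of_subsingleton A.hom
    obtain ⟨P, -, hP⟩ := AVDegree22.exists_euler_class g hg.le ![N] (fun i => by fin_cases i; exact hN)
    let p : Polynomial ℚ := MvPolynomial.aeval (fun _ => Polynomial.X) P
    have hp : ∀ n : ℕ, (chi (CohB1.tensorPow N n) : ℚ) = p.eval (n : ℚ) := by
      intro n
      rw [chi, hP ![n] _ (M2.isInvertible_tensorPow hN n) (by simp [cls_pow hN])]
      rw [eval_aeval']
      refine congrArg (fun f => MvPolynomial.eval f P) (funext fun i => ?_)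
      fin_cases i
      simp
    have h1 : chi (CohB1.tensorPow N 1) = chi N :=
      chi_congr _ hN (by rw [cls_pow hN, pow_one])
    have hp1 : p = Polynomial.C (p.eval 1) * Polynomial.X ^ g := by
      refine Polynomial.eq_of_infinite_eval_eq _ _ (Set.Infinite.mono ?_
        ((Set.Ici_infinite 1).image (f := fun n : ℕ => (((n * n : ℕ)) : ℚ)) (fun a _ b _ h => by
          exact Nat.mul_self_inj.1 (Nat.cast_injective (R := ℚ) h))))
      rintro _ ⟨n, hn, rfl⟩
      show p.eval _ = Polynomial.eval _ _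
      rw [← hp (n * n), chi, RR22.euler_sq_pow hN hnd hg hn, Polynomial.eval_mul, Polynomial.eval_C,
        Polynomial.eval_pow, Polynomial.eval_X, ← Nat.cast_one, ← hp 1, h1]
      push_cast
      ring
    have := hp m
    rw [hp1, Polynomial.eval_mul, Polynomial.eval_C, Polynomial.eval_pow, Polynomial.eval_X, ← Nat.cast_one,
      ← hp 1, h1, mul_comm] at this
    exact_mod_cast this
  · have h0 : chi N = 0 := MumVan22.euler_eq_zero_of_infinite hN hnd
    rw [h0, mul_zero]
    refine MumVan22.euler_eq_zero_of_infinite (M2.isInvertible_tensorPow hN m) fun h => hnd ?_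
    refine h.subset fun a ha => ?_
    rw [Set.mem_setOf_eq] at ha ⊢
    rw [cls_pow hN, map_pow, ha]

end Bar

/-- `χ(N^m) = m^g χ(N)`. -/
theorem chi_pow {N : A.left.Modules} (hN : PicF.IsInvertible N) {g : ℕ} (hg : topologicalKrullDim A.left = g)
    {m : ℕ} (hm : 0 < m) : chi (CohB1.tensorPow N m) = (m : ℤ) ^ g * chi N := by
  have hb := PicLoc.isInvertible_pullback (prj A) hN
  rw [chi, chi, ← RR22.euler_bar (M2.isInvertible_tensorPow hN m), ← RR22.euler_bar hN]
  refine Eq.trans ?_ (chi_pow_of_isAlgClosed hb ((topologicalKrullDim_bar (A := A)).trans hg) hm)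
  exact chi_congr (A := bar A) (PicLoc.isInvertible_pullback _ (M2.isInvertible_tensorPow hN m))
    (M2.isInvertible_tensorPow hb m) ((PicGrp.cls_eq_cls_iff _ _).2 ⟨M2.pullTensorPowIso (prj A) N m⟩)

/-- The Euler characteristic of `L^N ⊗ H^j` is `N^g Φ(j / N)`. -/
theorem chi_eq_pow_mul_eval {L H : A.left.Modules} (hL : PicF.IsInvertible L) (hH : PicF.IsInvertible H)
    {Φ : Polynomial ℚ}
    (hΦ : ∀ n : ℕ, Φ.eval (n : ℚ) = (chi (CohB1.tensorMod L (CohB1.tensorPow H n)) : ℚ))
    {g : ℕ} (hg : topologicalKrullDim A.left = g) {N : ℕ} (hN : 0 < N) (j : ℕ) {W : A.left.Modules}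
    (hW : PicF.IsInvertible W) (hWc : PicGrp.cls W hW = PicGrp.cls L hL ^ N * PicGrp.cls H hH ^ j) :
    (chi W : ℚ) = (N : ℚ) ^ g * Φ.eval ((j : ℚ) / N) := by
  haveI : IsIntegral A.left := GeometricallyIntegral.isIntegral_of_subsingleton A.hom
  obtain ⟨P, -, hP⟩ := AVDegree22.exists_euler_class g hg.le ![L, H] (fun i => by fin_cases i; exacts [hL, hH])
  have hval : ∀ (a b : ℕ) (V : A.left.Modules) (hV : PicF.IsInvertible V),
      PicGrp.cls V hV = PicGrp.cls L hL ^ a * PicGrp.cls H hH ^ b →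
      (chi V : ℚ) = MvPolynomial.eval ![(a : ℚ), (b : ℚ)] P := by
    intro a b V hV h
    rw [chi, hP ![a, b] V hV (by simpa [Fin.prod_univ_two] using h)]
    refine congrArg (fun f => MvPolynomial.eval f P) (funext fun i => ?_)
    fin_cases i <;> simp
  let φ : Polynomial ℚ := MvPolynomial.aeval ![1, Polynomial.X] P
  have hφ : ∀ t : ℚ, φ.eval t = MvPolynomial.eval ![1, t] P := fun t => by
    rw [RR22.eval_aeval]
    refine congrArg (fun f => MvPolynomial.eval f P) (funext fun i => ?_)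
    fin_cases i <;> simp
  have hΦφ : Φ = φ := RR22.poly_ext 0 fun n _ => by
    rw [hΦ, hφ, hval 1 n _ (M2.isInvertible_tensor hL (M2.isInvertible_tensorPow hH n))
      (by rw [cls_tensor hL (M2.isInvertible_tensorPow hH n), cls_pow hH, pow_one])]
    simp
  let ψ : Polynomial ℚ := MvPolynomial.aeval ![Polynomial.C (N : ℚ) * Polynomial.X,
    Polynomial.C (j : ℚ) * Polynomial.X] P
  have hψ : ∀ t : ℚ, ψ.eval t = MvPolynomial.eval ![(N : ℚ) * t, (j : ℚ) * t] P := fun t => by
    rw [RR22.eval_aeval]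
    refine congrArg (fun f => MvPolynomial.eval f P) (funext fun i => ?_)
    fin_cases i <;> simp
  have hψeq : ψ = Polynomial.C (chi W : ℚ) * Polynomial.X ^ g := RR22.poly_ext 1 fun m hm => by
    rw [hψ, Polynomial.eval_mul, Polynomial.eval_C, Polynomial.eval_pow, Polynomial.eval_X]
    have := hval (N * m) (j * m) _ (M2.isInvertible_tensorPow hW m)
      (by rw [cls_pow hW, hWc, mul_pow, ← pow_mul, ← pow_mul])
    rw [chi_pow hW hg hm] at this
    push_cast at this
    rw [← this, mul_comm]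
  have h := congrArg (Polynomial.eval (1 / (N : ℚ))) hψeq
  have hN' : (N : ℚ) ≠ 0 := Nat.cast_ne_zero.2 hN.ne'
  rw [hψ, Polynomial.eval_mul, Polynomial.eval_C, Polynomial.eval_pow, Polynomial.eval_X, mul_one_div,
    mul_one_div, div_self hN', ← hφ, ← hΦφ, one_div, inv_pow] at h
  rw [h, mul_comm, mul_assoc, inv_mul_cancel₀ (pow_ne_zero _ hN'), mul_one]

/-- **No root on the segment, no change of index.** -/
theorem index_eq_of_no_root {L H M : A.left.Modules} (hL : PicF.IsInvertible L) (hH : CohB1.IsAmple H)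
    (hM : Nonempty (M ≅ CohB1.tensorMod L H)) {i i' : ℕ} (hi : Conc L i) (hi' : Conc M i')
    {Φ : Polynomial ℚ} (hΦ : ∀ n : ℕ, Φ.eval (n : ℚ) = (chi (CohB1.tensorMod L (CohB1.tensorPow H n)) : ℚ))
    (hroot : ∀ t : ℝ, 0 ≤ t → t ≤ 1 → (Φ.map (algebraMap ℚ ℝ)).eval t ≠ 0) : i = i' := by
  letI : A.left.Over (Spec (CommRingCat.of k)) := ⟨A.hom⟩
  haveI : IsProper (A.left ↘ Spec (CommRingCat.of k)) := inferInstanceAs (IsProper A.hom)
  haveI : IsIntegral A.left := GeometricallyIntegral.isIntegral_of_subsingleton A.hom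
  obtain ⟨g, hg⟩ := exists_dim (A := A)
  obtain ⟨eM⟩ := hM
  have hMi : PicF.IsInvertible M := M2.isInvertible_of_iso eM.symm (M2.isInvertible_tensor hL hH.1)
  set cL := PicGrp.cls L hL
  set cH := PicGrp.cls H hH.1
  have hcM : PicGrp.cls M hMi = cL * cH :=
    ((PicGrp.cls_eq_cls_iff hMi (M2.isInvertible_tensor hL hH.1)).2 ⟨eM⟩).trans (cls_tensor hL hH.1)
  have hne : chi L ≠ 0 := hi.euler_ne_zero (Snapper.isCoh_of_isInvertible hL)
  have hne' : chi M ≠ 0 := hi'.euler_ne_zero (Snapper.isCoh_of_isInvertible hMi)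
  by_contra hii
  obtain ⟨e, rfl⟩ : ∃ e, g = e + 1 := by
    obtain ⟨q, hq, hcq⟩ := exists_conc hL hne hg
    obtain ⟨q', hq', hcq'⟩ := exists_conc hMi hne' hg
    have h1 := hcq.unique hi.2
    have h2 := hcq'.unique hi'.2
    exact ⟨g - 1, by omega⟩
  -- a power of `H` with an injective section
  obtain ⟨n₀, hn₀⟩ := NumPoly18.eventually_hasMonoSec (X := A.left) k hH
    (PicLoc.isInvertible_structureModule A.left)
  obtain ⟨m, hm0, hmn⟩ : ∃ m : ℕ, 0 < m ∧ n₀ ≤ m := ⟨n₀ + 1, Nat.succ_pos _, Nat.le_succ _⟩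
  have hHm := M2.isInvertible_tensorPow hH.1 m
  obtain ⟨s, hs⟩ := (hn₀ m hmn).of_iso (M2.tensorLUnit _)
  haveI := hs
  obtain ⟨hQ, hQd⟩ := NumPoly18.dim_support_coker_of_mono (k := k) (d := e) hg.le
    (PicLoc.isInvertible_structureModule A.left) hHm s
  obtain ⟨F, hF, hstep, hFc⟩ := exists_family ![L, H] (fun j => by fin_cases j; exacts [hL, hH.1])
  obtain ⟨C, hC⟩ := Growth13.bdd k (L := ![L, H]) (fun j => by fin_cases j; exacts [hL, hH.1]) hF hstep e
    (cokernel s) hQ hQd
  -- the minimum of `|Φ|` on the segment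
  let f : ℝ → ℝ := fun t => |(Φ.map (algebraMap ℚ ℝ)).eval t|
  obtain ⟨t₀, ht₀, hmin⟩ := (isCompact_Icc (a := (0 : ℝ)) (b := 1)).exists_isMinOn
    (Set.nonempty_Icc.2 zero_le_one) (f := f)
    ((Φ.map (algebraMap ℚ ℝ)).continuous.abs.continuousOn)
  have hc : 0 < f t₀ := abs_pos.2 (hroot t₀ ht₀.1 ht₀.2)
  obtain ⟨N, hN⟩ := exists_nat_gt ((C : ℝ) * (3 * (m : ℝ)) ^ e / ((m : ℝ) ^ (e + 1) * f t₀))
  have hN0 : 0 < N := by
    have : (0 : ℝ) < N := lt_of_le_of_lt (by positivity) hN
    exact_mod_cast this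
  let W : ℕ → A.left.Modules := fun j => F ![((m * N : ℕ) : ℤ), ((m * j : ℕ) : ℤ)]
  have hWc : ∀ j, PicGrp.cls (W j) (hF _) = cL ^ (m * N) * cH ^ (m * j) := fun j => by
    rw [hFc, Fin.prod_univ_two]
    simp [cL, cH, zpow_natCast]
    rfl
  have hval : ∀ j, (chi (W j) : ℚ) = ((m * N : ℕ) : ℚ) ^ (e + 1) * Φ.eval ((j : ℚ) / N) := fun j => by
    rw [chi_eq_pow_mul_eval hL hH.1 hΦ hg (Nat.mul_pos hm0 hN0) (m * j) (hF _) (hWc j)]
    push_cast
    rw [mul_div_mul_left _ _ (Nat.cast_ne_zero.2 hm0.ne')]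
  have hbig : ∀ j, j ≤ N → ((m : ℝ) * N) ^ (e + 1) * f t₀ ≤ |((chi (W j) : ℤ) : ℝ)| := by
    intro j hj
    have h := congrArg (fun q : ℚ => (q : ℝ)) (hval j)
    push_cast at h
    rw [h, abs_mul, abs_of_nonneg (by positivity : (0 : ℝ) ≤ ((m : ℝ) * N) ^ (e + 1))]
    refine mul_le_mul_of_nonneg_left ?_ (by positivity)
    have hmem : ((j : ℝ) / N) ∈ Set.Icc (0 : ℝ) 1 :=
      ⟨by positivity, div_le_one_of_le₀ (Nat.cast_le.2 hj) (Nat.cast_nonneg N)⟩
    refine (isMinOn_iff.1 hmin _ hmem).trans_eq ?_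
    show |(Φ.map (algebraMap ℚ ℝ)).eval _| = _
    rw [show ((j : ℝ) / N) = algebraMap ℚ ℝ ((j : ℚ) / N) by simp, Polynomial.eval_map,
      Polynomial.eval₂_at_apply]
    rfl
  have hWne : ∀ j, j ≤ N → chi (W j) ≠ 0 := fun j hj h => by
    have := hbig j hj
    rw [h, Int.cast_zero, abs_zero] at this
    have : 0 < ((m : ℝ) * N) ^ (e + 1) * f t₀ := mul_pos (pow_pos (by positivity) _) hc
    linarith
  choose q hq hqc using fun (j : {j : ℕ // j ≤ N}) => exists_conc (hF _) (hWne j.1 j.2) hg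
  have hq0 : q ⟨0, Nat.zero_le _⟩ = i := by
    obtain ⟨ε⟩ := (PicGrp.cls_eq_cls_iff (M2.isInvertible_tensorPow hL (m * N)) (hF _)).1
      (((cls_pow hL _).trans (by rw [mul_zero, pow_zero, mul_one])).trans (hWc 0).symm)
    exact (((Conc_pow hL hi (Nat.mul_pos hm0 hN0)).congr ε).unique (hqc _).2)
  have hqN : q ⟨N, le_rfl⟩ = i' := by
    obtain ⟨ε⟩ := (PicGrp.cls_eq_cls_iff (M2.isInvertible_tensorPow hMi (m * N)) (hF _)).1
      (((cls_pow hMi _).trans (by rw [hcM, mul_pow])).trans (hWc N).symm)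
    exact (((Conc_pow hMi hi' (Nat.mul_pos hm0 hN0)).congr ε).unique (hqc _).2)
  obtain ⟨j, hj, hjne⟩ : ∃ j, ∃ hj : j < N, q ⟨j, hj.le⟩ ≠ q ⟨j + 1, hj⟩ := by
    by_contra hall
    push Not at hall
    have : ∀ j, ∀ hj : j ≤ N, q ⟨j, hj⟩ = i := by
      intro j
      induction j with
      | zero => exact fun _ => hq0
      | succ j ih => exact fun hj => (hall j hj).symm.trans (ih _)
    exact hii ((this N le_rfl).symm.trans hqN)
  -- the exact sequence from `W j` to `W (j + 1)`
  let T := W j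
  have hT : PicF.IsInvertible T := hF _
  let S : ShortComplex A.left.Modules := ShortComplex.mk s (cokernel.π s) (cokernel.condition _)
  have hS : S.ShortExact := { exact := ShortComplex.exact_cokernel s }
  have hle := Growth13.hdim_left_tensor_le (k := k) hS (M1.isCoh_structureModule _)
    (Snapper.isCoh_of_isInvertible hHm) hQ hT (q ⟨j, hj.le⟩)
  obtain ⟨ε⟩ := (PicGrp.cls_eq_cls_iff (M2.isInvertible_tensor hHm hT) (hF _)).1
    ((cls_tensor hHm hT).trans ((by
      rw [cls_pow hH.1, hWc, mul_left_comm, ← pow_add, Nat.mul_succ, Nat.add_comm] :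
        PicGrp.cls _ hHm * PicGrp.cls T hT = cL ^ (m * N) * cH ^ (m * (j + 1))).trans (hWc (j + 1)).symm))
  have hz : Growth13.hdim k (CohB1.tensorMod S.X₂ T) (q ⟨j, hj.le⟩) = 0 := by
    haveI := (hqc ⟨j + 1, hj⟩).1 _ hjne
    rw [show S.X₂ = CohB1.tensorPow H m from rfl, Growth13.hdim_iso k ε]
    exact Module.finrank_zero_of_subsingleton
  have hj1 : Growth13.hdim k (CohB1.tensorMod S.X₁ T) (q ⟨j, hj.le⟩) = (chi T).natAbs := by
    rw [natAbs_chi_eq hT (hqc ⟨j, hj.le⟩)]
    exact Growth13.hdim_iso k (M2.tensorLUnit T) _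
  rw [hz, hj1, zero_add] at hle
  have hb := hle.trans (hC (q ⟨j, hj.le⟩ - 1) ![((m * N : ℕ) : ℤ), ((m * j : ℕ) : ℤ)])
  have hwt : Growth13.wt ![((m * N : ℕ) : ℤ), ((m * j : ℕ) : ℤ)] + 1 ≤ 3 * m * N := by
    rw [Growth13.wt, Fin.sum_univ_two]
    simp only [Matrix.cons_val_zero, Matrix.cons_val_one, Int.natAbs_natCast]
    have h1 : m * j ≤ m * N := Nat.mul_le_mul_left m hj.le
    have h2 : 0 < m * N := Nat.mul_pos hm0 hN0
    have h3 : 3 * m * N = m * N + m * N + m * N := by ring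
    omega
  have hb' : ((chi T).natAbs : ℝ) ≤ (C : ℝ) * (3 * (m : ℝ) * N) ^ e := by
    exact_mod_cast hb.trans (Nat.mul_le_mul_left C (Nat.pow_le_pow_left hwt e))
  rw [Nat.cast_natAbs, Int.cast_abs] at hb'
  have h := (hbig j hj.le).trans hb'
  rw [div_lt_iff₀ (mul_pos (pow_pos (by positivity) _) hc)] at hN
  have hNpos : (0 : ℝ) < (N : ℝ) ^ e := pow_pos (Nat.cast_pos.2 hN0) e
  rw [mul_pow, mul_pow, pow_succ (N : ℝ)] at h
  nlinarith [mul_lt_mul_of_pos_right hN hNpos]

end Groth.Agent.Hilb13
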